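import Mathlib
import Cfsg.Agent.Lib.Helper17.Simple

set_option autoImplicit false

namespace Cfsg.Agent.Lib.Helper17

variable {G : Type*} [Group G] [Finite G]

omit [Finite G] in
/-- In a simple group of non-prime order every element acts as an even permutation. -/
theorem sign_toPerm_eq_one [IsSimpleGroup G] (hG : ¬ (Nat.card G).Prime) {X : Type*} [Fintype X]
    [DecidableEq X] [MulAction G X] (g : G) : Equiv.Perm.sign (MulAction.toPermHom G X g) = 1 := by
  let ψ : G →* ℤˣ := Equiv.Perm.sign.comp (MulAction.toPermHom G X)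
  rcases (MonoidHom.normal_ker ψ).eq_bot_or_eq_top with h | h
  · exfalso
    apply not_comm_of_not_prime hG
    have hinj' : Function.Injective ψ := (MonoidHom.ker_eq_bot_iff ψ).mp h
    exact ⟨⟨fun a b => hinj' (by rw [map_mul, map_mul, mul_comm])⟩⟩
  · have : g ∈ ψ.ker := h ▸ Subgroup.mem_top g
    exact this

omit [Finite G] in
/-- In a simple group of non-prime order acting on a finite set, the number of points moved by
an involution is divisible by four. -/
theorem involution_fixed_mod_four [IsSimpleGroup G] (hG : ¬ (Nat.card G).Prime) {X : Type*}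
    [Finite X] [MulAction G X] (t : G) (ht : t * t = 1) :
    ∃ c, Set.ncard {x : X | t • x = x} + 4 * c = Nat.card X := by
  classical
  have : Fintype X := Fintype.ofFinite X
  set τ : Equiv.Perm X := MulAction.toPermHom G X t with hτ
  have hsign : Equiv.Perm.sign τ = 1 := sign_toPerm_eq_one hG t
  have hτ2 : τ ^ 2 = 1 := by
    rw [hτ, ← map_pow, pow_two, ht, map_one]
  have : Fact (Nat.Prime 2) := ⟨Nat.prime_two⟩
  have hrep := Equiv.Perm.cycleType_of_pow_prime_eq_one hτ2
  have h1 := Equiv.Perm.sign_of_cycleType_eq_replicate (by norm_num : 0 < 2) hrep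
  rw [hsign, if_neg (by decide)] at h1
  have hfix := Equiv.Perm.card_fixedPoints τ
  have hsum : τ.cycleType.sum = 2 * Multiset.card τ.cycleType := by
    conv_lhs => rw [hrep]
    rw [Multiset.sum_replicate, smul_eq_mul, mul_comm]
  have hle := Equiv.Perm.sum_cycleType_le τ
  have hF : Set.ncard {x : X | t • x = x} = Fintype.card (Function.fixedPoints τ) := by
    rw [← Nat.card_coe_set_eq, Nat.card_eq_fintype_card]
    rfl
  rw [hF, Nat.card_eq_fintype_card, hfix, hsum]
  rw [hfix, hsum] at h1
  have h2 : (Fintype.card X - (Fintype.card X - 2 * Multiset.card τ.cycleType)) / 2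
      = Multiset.card τ.cycleType := by omega
  rw [h2] at h1
  have heven : Even (Multiset.card τ.cycleType) := by
    by_contra hodd
    rw [Nat.not_even_iff_odd] at hodd
    rw [hodd.neg_one_pow] at h1
    exact absurd h1 (by decide)
  obtain ⟨c, hc⟩ := heven
  refine ⟨c, ?_⟩
  omega

end Cfsg.Agent.Lib.Helper17
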