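import Mathlib
import Cfsg.Agent.Lib.Helper17.Simple

set_option autoImplicit false

namespace Cfsg.Agent.Lib.Helper17

variable {G : Type*} [Group G] [Finite G]

/-- In a simple group with a subgroup of prime index `p`, the normalizer of a Sylow `p`-subgroup
has order dividing `p * (p - 1)`. -/
theorem card_normalizer_dvd_of_index_prime [IsSimpleGroup G] (H : Subgroup G) (p : ℕ)
    [Fact p.Prime] (hH : H.index = p) (P : Sylow p G) :
    Nat.card (Subgroup.normalizer ((P : Subgroup G) : Set G)) ∣ p * (p - 1) := by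
  classical
  have hpp : p.Prime := Fact.out
  have : Fintype (G ⧸ H) := Fintype.ofFinite _
  have hcard : Fintype.card (G ⧸ H) = p := by
    rw [← hH, Subgroup.index, Nat.card_eq_fintype_card]
  have hHtop : H ≠ ⊤ := by
    intro h
    rw [h, Subgroup.index_top] at hH
    exact hpp.one_lt.ne hH
  set φ := MulAction.toPermHom G (G ⧸ H) with hφ
  have hinj : Function.Injective φ := by
    rw [← MonoidHom.ker_eq_bot_iff, hφ, ← Subgroup.normalCore_eq_ker]
    rcases (H.normalCore_normal).eq_bot_or_eq_top with h | h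
    · exact h
    · exact absurd (top_le_iff.mp (h ▸ Subgroup.normalCore_le H)) hHtop
  have hpG : p ∣ Nat.card G := hH ▸ Subgroup.index_dvd_card H
  have hpP : p ∣ Nat.card (P : Subgroup G) := P.dvd_card_of_dvd_card hpG
  obtain ⟨Q, hQ⟩ := (P.2.map φ).exists_le_sylow
  have hcardQ : Nat.card (Q : Subgroup (Equiv.Perm (G ⧸ H))) = p := by
    rw [Sylow.card_eq_multiplicity, Nat.card_eq_fintype_card, Fintype.card_perm,
      Cfsg.Agent.S0989.factorization_factorial_eq_one p _ hpp (by rw [hcard]) (by rw [hcard]; have := hpp.two_le; omega), pow_one]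
  have hcardP' : Nat.card ((P : Subgroup G).map φ) = Nat.card (P : Subgroup G) :=
    Subgroup.card_map_of_injective hinj
  have hPQ : (P : Subgroup G).map φ = (Q : Subgroup (Equiv.Perm (G ⧸ H))) := by
    apply Subgroup.eq_of_le_of_card_ge hQ
    rw [hcardQ, hcardP']
    exact Nat.le_of_dvd Nat.card_pos hpP
  have h1 : (Subgroup.normalizer ((P : Subgroup G) : Set G)).map φ ≤
      Subgroup.normalizer ((Q : Subgroup (Equiv.Perm (G ⧸ H))) : Set (Equiv.Perm (G ⧸ H))) := by
    rw [← hPQ]
    exact Subgroup.le_normalizer_map φ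
  have h2 := Subgroup.card_dvd_of_le h1
  rw [Subgroup.card_map_of_injective hinj,
    Cfsg.Agent.S0989.result p (Or.inl hcard) Q] at h2
  exact h2

/-- In a simple group of non-prime order with a subgroup of odd prime index `p`, twice the order
of the normalizer of a Sylow `p`-subgroup divides `p * (p - 1)`. -/
theorem two_mul_card_normalizer_dvd_of_index_prime [IsSimpleGroup G] (hG : ¬ (Nat.card G).Prime)
    (H : Subgroup G) (p : ℕ) [Fact p.Prime] (hp2 : p ≠ 2) (hH : H.index = p) (P : Sylow p G) :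
    2 * Nat.card (Subgroup.normalizer ((P : Subgroup G) : Set G)) ∣ p * (p - 1) := by
  classical
  have hpp : p.Prime := Fact.out
  have : Fintype (G ⧸ H) := Fintype.ofFinite _
  have hcard : Fintype.card (G ⧸ H) = p := by
    rw [← hH, Subgroup.index, Nat.card_eq_fintype_card]
  have hHtop : H ≠ ⊤ := by
    intro h
    rw [h, Subgroup.index_top] at hH
    exact hpp.one_lt.ne hH
  set φ := MulAction.toPermHom G (G ⧸ H) with hφ
  have hinj : Function.Injective φ := by
    rw [← MonoidHom.ker_eq_bot_iff, hφ, ← Subgroup.normalCore_eq_ker]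
    rcases (H.normalCore_normal).eq_bot_or_eq_top with h | h
    · exact h
    · exact absurd (top_le_iff.mp (h ▸ Subgroup.normalCore_le H)) hHtop
  have hsign : ∀ g, Equiv.Perm.sign (φ g) = 1 := by
    let ψ : G →* ℤˣ := Equiv.Perm.sign.comp φ
    rcases (MonoidHom.normal_ker ψ).eq_bot_or_eq_top with h | h
    · exfalso
      apply not_comm_of_not_prime hG
      have hinj' : Function.Injective ψ := (MonoidHom.ker_eq_bot_iff ψ).mp h
      exact ⟨⟨fun a b => hinj' (by rw [map_mul, map_mul, mul_comm])⟩⟩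
    · intro g
      have : g ∈ ψ.ker := h ▸ Subgroup.mem_top g
      exact this
  have hpG : p ∣ Nat.card G := hH ▸ Subgroup.index_dvd_card H
  have hpP : p ∣ Nat.card (P : Subgroup G) := P.dvd_card_of_dvd_card hpG
  obtain ⟨Q, hQ⟩ := (P.2.map φ).exists_le_sylow
  have hcardQ : Nat.card (Q : Subgroup (Equiv.Perm (G ⧸ H))) = p := by
    rw [Sylow.card_eq_multiplicity, Nat.card_eq_fintype_card, Fintype.card_perm,
      Cfsg.Agent.S0989.factorization_factorial_eq_one p _ hpp (by rw [hcard]) (by rw [hcard]; have := hpp.two_le; omega), pow_one]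
  have hcardP' : Nat.card ((P : Subgroup G).map φ) = Nat.card (P : Subgroup G) :=
    Subgroup.card_map_of_injective hinj
  have hPQ : (P : Subgroup G).map φ = (Q : Subgroup (Equiv.Perm (G ⧸ H))) := by
    apply Subgroup.eq_of_le_of_card_ge hQ
    rw [hcardQ, hcardP']
    exact Nat.le_of_dvd Nat.card_pos hpP
  set M := (Subgroup.normalizer ((P : Subgroup G) : Set G)).map φ with hM
  have h1 : M ≤
      Subgroup.normalizer ((Q : Subgroup (Equiv.Perm (G ⧸ H))) : Set (Equiv.Perm (G ⧸ H))) := by
    rw [← hPQ]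
    exact Subgroup.le_normalizer_map φ
  have hMA : M ≤ alternatingGroup (G ⧸ H) := by
    rintro x ⟨g, -, rfl⟩
    exact Equiv.Perm.mem_alternatingGroup.mpr (hsign g)
  obtain ⟨hQA, h2⟩ := Cfsg.Agent.S0990.result (α := G ⧸ H) (by rw [hcard]; exact hpp.two_le) p hp2 Q
  rw [Cfsg.Agent.S0989.result p (Or.inl hcard) Q] at h2
  rw [← h2]
  apply Nat.mul_dvd_mul_left
  have h3 : M.subgroupOf (alternatingGroup (G ⧸ H)) ≤ Subgroup.normalizer
      (((Q : Subgroup (Equiv.Perm (G ⧸ H))).subgroupOf (alternatingGroup (G ⧸ H)) :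
        Subgroup ↥(alternatingGroup (G ⧸ H))) : Set ↥(alternatingGroup (G ⧸ H))) := by
    rw [← Subgroup.subgroupOf_normalizer_eq hQA]
    exact Subgroup.subgroupOf_mono _ h1
  have h4 := Subgroup.card_dvd_of_le h3
  rw [Nat.card_congr (Subgroup.subgroupOfEquivOfLe hMA).toEquiv, hM,
    Subgroup.card_map_of_injective hinj] at h4
  exact h4

end Cfsg.Agent.Lib.Helper17
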