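import Cfsg.Agent.Lib.Helper17.ReeE1
import Cfsg.Agent.Lib.Helper20.PGroupOdd

set_option autoImplicit false

/-!
# Cyclic Sylow subgroups: conjugacy of cyclic subgroups of a given order
-/

namespace Cfsg.Agent.Lib.Helper17

section cyc

variable {G : Type*} [Group G]

/-- in a cyclic subgroup, the solutions of `v ^ n = 1`, `n` the order of `u`, are the powers
of `u` -/
theorem mem_zpowers_of_cyclic [Finite G] (Q : Subgroup G) (hQ : IsCyclic Q)
    (u v : G) (hu : u ∈ Q) (hv : v ∈ Q) (h : v ^ orderOf u = 1) : v ∈ Subgroup.zpowers u := by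
  classical
  haveI := hQ
  have hn : 0 < orderOf u := orderOf_pos u
  have hord : orderOf (⟨u, hu⟩ : ↥Q) = orderOf u := Subgroup.orderOf_mk _ _
  haveI : Fintype ↥Q := Fintype.ofFinite _
  have hle := IsCyclic.card_pow_eq_one_le (α := ↥Q) hn
  have hZ : (Finset.range (orderOf u)).image (fun i => (⟨u, hu⟩ : ↥Q) ^ i) ⊆
      Finset.univ.filter (fun a : ↥Q => a ^ orderOf u = 1) := by
    intro a ha
    obtain ⟨i, -, rfl⟩ := Finset.mem_image.mp ha
    rw [Finset.mem_filter]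
    refine ⟨Finset.mem_univ _, ?_⟩
    rw [← pow_mul, mul_comm, pow_mul, ← hord, pow_orderOf_eq_one, one_pow]
  have hcard : ((Finset.range (orderOf u)).image (fun i => (⟨u, hu⟩ : ↥Q) ^ i)).card =
      orderOf u := by
    rw [Finset.card_image_of_injOn, Finset.card_range]
    intro i hi j hj hij
    rw [Finset.coe_range] at hi hj
    rw [← hord] at hi hj
    exact pow_injOn_Iio_orderOf hi hj hij
  have heq := Finset.eq_of_subset_of_card_le hZ (by rw [hcard]; exact hle)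
  have hv' : (⟨v, hv⟩ : ↥Q) ∈ Finset.univ.filter (fun a : ↥Q => a ^ orderOf u = 1) := by
    rw [Finset.mem_filter]
    exact ⟨Finset.mem_univ _, Subtype.ext h⟩
  rw [← heq] at hv'
  obtain ⟨i, -, hi⟩ := Finset.mem_image.mp hv'
  have e : u ^ i = v := congrArg Subtype.val hi
  rw [← e]
  exact Subgroup.npow_mem_zpowers u i

/-- Sylow `p`-subgroups are cyclic, `p` odd, when the elements of order dividing `p` commuting
with an element of order `p` are its powers -/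
theorem sylow_cyclic_of_star [Finite G] (p : ℕ) [Fact p.Prime] (hp2 : p ≠ 2)
    (hstar : ∀ z w : G, orderOf z = p → w * z = z * w → w ^ p = 1 → w ∈ Subgroup.zpowers z)
    (P : Sylow p G) : IsCyclic (P : Subgroup G) := by
  by_contra hnc
  obtain ⟨z₀, x, hz, hzo, hxp, hxz, -⟩ :=
    Cfsg.Agent.Lib.Helper20.exists_normal_rank_two hp2 P.isPGroup' hnc
  have h1 : orderOf (z₀ : G) = p := by rw [Subgroup.orderOf_coe, hzo]
  have h2 : (x : G) * (z₀ : G) = (z₀ : G) * (x : G) :=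
    congrArg Subtype.val ((Subgroup.mem_center_iff.mp hz) x)
  have h3 : (x : G) ^ p = 1 := congrArg Subtype.val hxp
  obtain ⟨k, hk⟩ := Subgroup.mem_zpowers_iff.mp (hstar _ _ h1 h2 h3)
  apply hxz
  rw [Subgroup.mem_zpowers_iff]
  refine ⟨k, ?_⟩
  apply Subtype.ext
  rw [Subgroup.coe_zpow]
  exact hk

/-- when the `p`-subgroups are cyclic for all primes `p` dividing `d`, elements of order `d`
generate conjugate subgroups -/
theorem exists_conj_mem_zpowers [Finite G] (d : ℕ) :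
    ∀ (a b : G), (∀ p : ℕ, p.Prime → p ∣ d → ∀ Q : Subgroup G, IsPGroup p Q → IsCyclic Q) →
      orderOf a = d → orderOf b = d → ∃ g : G, g * a * g⁻¹ ∈ Subgroup.zpowers b := by
  induction d using Nat.strong_induction_on with
  | _ d ih =>
  intro a b hd ha hb
  have hd0 : d ≠ 0 := by
    rw [← ha]
    exact (orderOf_pos a).ne'
  by_cases hd1 : d = 1
  · refine ⟨1, ?_⟩
    have h1 : a = 1 := orderOf_eq_one_iff.mp (by rw [ha, hd1])
    rw [h1, mul_one, mul_inv_cancel]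
    exact one_mem _
  have hp := Nat.minFac_prime hd1
  have hpd : d.minFac ∣ d := Nat.minFac_dvd d
  generalize d.minFac = p at hp hpd
  obtain ⟨k, d', hpd', hdk⟩ := Nat.exists_eq_pow_mul_and_not_dvd hd0 p hp.ne_one
  have hk : k ≠ 0 := by
    rintro rfl
    rw [pow_zero, one_mul] at hdk
    exact hpd' (hdk ▸ hpd)
  have hd'0 : d' ≠ 0 := by
    rintro rfl
    rw [mul_zero] at hdk
    exact hd0 hdk
  have hpk0 : p ^ k ≠ 0 := pow_ne_zero _ hp.ne_zero
  have hd'lt : d' < d := by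
    rw [hdk]
    have h2 : 2 ≤ p ^ k := by
      calc 2 ≤ p := hp.two_le
        _ = p ^ 1 := (pow_one p).symm
        _ ≤ p ^ k := Nat.pow_le_pow_right hp.pos (Nat.one_le_iff_ne_zero.mpr hk)
    nlinarith [Nat.pos_of_ne_zero hd'0]
  have ho1 : ∀ c : G, orderOf c = d → orderOf (c ^ p ^ k) = d' := by
    intro c hc
    rw [orderOf_pow_of_dvd hpk0 (by rw [hc, hdk]; exact dvd_mul_right _ _), hc, hdk,
      Nat.mul_div_cancel_left _ (Nat.pos_of_ne_zero hpk0)]
  have ho2 : ∀ c : G, orderOf c = d → orderOf (c ^ d') = p ^ k := by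
    intro c hc
    rw [orderOf_pow_of_dvd hd'0 (by rw [hc, hdk]; exact dvd_mul_left _ _), hc, hdk,
      Nat.mul_div_cancel _ (Nat.pos_of_ne_zero hd'0)]
  obtain ⟨g₁, hg₁⟩ := ih d' hd'lt (a ^ p ^ k) (b ^ p ^ k)
    (fun q hq hqd Q hQ => hd q hq (by rw [hdk]; exact dvd_mul_of_dvd_right hqd _) Q hQ)
    (ho1 a ha) (ho1 b hb)
  obtain ⟨a', ha'def⟩ : ∃ a' : G, a' = g₁ * a * g₁⁻¹ := ⟨_, rfl⟩
  have ha' : orderOf a' = d := by
    rw [ha'def, ← MulAut.conj_apply, MulEquiv.orderOf_eq]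
    exact ha
  rw [← conj_pow, ← ha'def] at hg₁
  have hecomm_a : a' ^ d' * a' ^ p ^ k = a' ^ p ^ k * a' ^ d' := by
    rw [← pow_add, ← pow_add, add_comm]
  have heb : a' ^ p ^ k ∈ Subgroup.zpowers b :=
    (Subgroup.zpowers_le.mpr (pow_mem (Subgroup.mem_zpowers b) _)) hg₁
  have hecomm_b : b ^ d' * a' ^ p ^ k = a' ^ p ^ k * b ^ d' := by
    obtain ⟨j', hj'⟩ := Subgroup.mem_zpowers_iff.mp heb
    rw [← hj', ← zpow_natCast, ← zpow_add, ← zpow_add, add_comm]
  obtain ⟨e, hedef⟩ : ∃ e : G, e = a' ^ p ^ k := ⟨_, rfl⟩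
  rw [← hedef] at hg₁ hecomm_a heb hecomm_b
  have haC : a' ^ d' ∈ Subgroup.centralizer ({e} : Set G) :=
    (mem_cent_singleton _ _).mpr hecomm_a
  have hbC : b ^ d' ∈ Subgroup.centralizer ({e} : Set G) :=
    (mem_cent_singleton _ _).mpr hecomm_b
  haveI : Fact p.Prime := ⟨hp⟩
  have hoa : orderOf (⟨a' ^ d', haC⟩ : ↥(Subgroup.centralizer ({e} : Set G))) = p ^ k := by
    rw [Subgroup.orderOf_mk]
    exact ho2 a' ha'
  have hob : orderOf (⟨b ^ d', hbC⟩ : ↥(Subgroup.centralizer ({e} : Set G))) = p ^ k := by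
    rw [Subgroup.orderOf_mk]
    exact ho2 b hb
  have hPa : IsPGroup p (Subgroup.zpowers
      (⟨a' ^ d', haC⟩ : ↥(Subgroup.centralizer ({e} : Set G)))) :=
    IsPGroup.of_card (n := k) (by rw [Nat.card_zpowers, hoa])
  have hPb : IsPGroup p (Subgroup.zpowers
      (⟨b ^ d', hbC⟩ : ↥(Subgroup.centralizer ({e} : Set G)))) :=
    IsPGroup.of_card (n := k) (by rw [Nat.card_zpowers, hob])
  obtain ⟨P₁, hP₁⟩ := hPa.exists_le_sylow
  obtain ⟨P₂, hP₂⟩ := hPb.exists_le_sylow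
  obtain ⟨c, hc⟩ := MulAction.exists_smul_eq ↥(Subgroup.centralizer ({e} : Set G)) P₁ P₂
  have hu : c * ⟨a' ^ d', haC⟩ * c⁻¹ ∈
      (P₂ : Subgroup ↥(Subgroup.centralizer ({e} : Set G))) := by
    rw [← hc, mem_smul_sylow_iff']
    have e1 : c⁻¹ * (c * ⟨a' ^ d', haC⟩ * c⁻¹) * c = ⟨a' ^ d', haC⟩ := by group
    rw [e1]
    exact hP₁ (Subgroup.mem_zpowers _)
  have hv : (⟨b ^ d', hbC⟩ : ↥(Subgroup.centralizer ({e} : Set G))) ∈
      (P₂ : Subgroup ↥(Subgroup.centralizer ({e} : Set G))) := hP₂ (Subgroup.mem_zpowers _)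
  have hQ : IsCyclic ((P₂ : Subgroup ↥(Subgroup.centralizer ({e} : Set G))).map
      (Subgroup.centralizer ({e} : Set G)).subtype) :=
    hd p hp hpd _ (P₂.isPGroup'.map _)
  have hu' : (c : G) * a' ^ d' * (c : G)⁻¹ ∈
      (P₂ : Subgroup ↥(Subgroup.centralizer ({e} : Set G))).map
        (Subgroup.centralizer ({e} : Set G)).subtype := ⟨_, hu, rfl⟩
  have hv' : b ^ d' ∈ (P₂ : Subgroup ↥(Subgroup.centralizer ({e} : Set G))).map
      (Subgroup.centralizer ({e} : Set G)).subtype := ⟨_, hv, rfl⟩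
  have hup : ((c : G) * a' ^ d' * (c : G)⁻¹) ^ orderOf (b ^ d') = 1 := by
    rw [ho2 b hb, conj_pow, ← ho2 a' ha', pow_orderOf_eq_one, mul_one, mul_inv_cancel]
  have hmem := mem_zpowers_of_cyclic _ hQ (b ^ d') _ hv' hu' hup
  have hcC : (c : G) * e = e * (c : G) := (mem_cent_singleton _ _).mp c.2
  have hcop : Nat.gcd d' (p ^ k) = 1 :=
    (Nat.Coprime.pow_left k ((Nat.Prime.coprime_iff_not_dvd hp).mpr hpd')).symm
  have hbez : (d' : ℤ) * Nat.gcdA d' (p ^ k) + ((p ^ k : ℕ) : ℤ) * Nat.gcdB d' (p ^ k) = 1 := by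
    have h1 := Nat.gcd_eq_gcd_ab d' (p ^ k)
    rw [hcop] at h1
    exact_mod_cast h1.symm
  refine ⟨c * g₁, ?_⟩
  have e2 : (c : G) * g₁ * a * ((c : G) * g₁)⁻¹ = (c : G) * a' * (c : G)⁻¹ := by
    rw [ha'def]
    group
  rw [e2]
  have e3 : a' = (a' ^ d') ^ (Nat.gcdA d' (p ^ k)) * e ^ (Nat.gcdB d' (p ^ k)) := by
    rw [hedef, ← zpow_natCast, ← zpow_natCast, ← zpow_mul, ← zpow_mul, ← zpow_add, hbez,
      zpow_one]
  have hcE : (c : G) * e ^ (Nat.gcdB d' (p ^ k)) * (c : G)⁻¹ = e ^ (Nat.gcdB d' (p ^ k)) := by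
    rw [← conj_zpow]
    congr 1
    rw [hcC]
    group
  have e4 : (c : G) * a' * (c : G)⁻¹ =
      ((c : G) * a' ^ d' * (c : G)⁻¹) ^ (Nat.gcdA d' (p ^ k)) * e ^ (Nat.gcdB d' (p ^ k)) := by
    conv_lhs => rw [e3]
    rw [conj_zpow]
    calc (c : G) * ((a' ^ d') ^ (Nat.gcdA d' (p ^ k)) * e ^ (Nat.gcdB d' (p ^ k))) * (c : G)⁻¹
        = ((c : G) * (a' ^ d') ^ (Nat.gcdA d' (p ^ k)) * (c : G)⁻¹) *
          ((c : G) * e ^ (Nat.gcdB d' (p ^ k)) * (c : G)⁻¹) := by group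
      _ = ((c : G) * (a' ^ d') ^ (Nat.gcdA d' (p ^ k)) * (c : G)⁻¹) *
          e ^ (Nat.gcdB d' (p ^ k)) := by rw [hcE]
  rw [e4]
  exact mul_mem (zpow_mem ((Subgroup.zpowers_le.mpr (pow_mem (Subgroup.mem_zpowers b) _)) hmem) _)
    (zpow_mem heb _)

/-- when the `p`-subgroups are cyclic for all primes `p` dividing `d`, the cyclic subgroups
of order `d` are conjugate -/
theorem cyclic_subgroups_conj [Finite G] (d : ℕ)
    (hd : ∀ p : ℕ, p.Prime → p ∣ d → ∀ Q : Subgroup G, IsPGroup p Q → IsCyclic Q)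
    (A B : Subgroup G) (hA : IsCyclic A) (hB : IsCyclic B) (hAd : Nat.card A = d)
    (hBd : Nat.card B = d) : ∃ g : G, B = A.map (MulAut.conj g).toMonoidHom := by
  obtain ⟨a, ha⟩ := IsCyclic.exists_generator (α := A)
  obtain ⟨b, hb⟩ := IsCyclic.exists_generator (α := B)
  have hoa : orderOf (a : G) = d := by
    rw [Subgroup.orderOf_coe, orderOf_eq_card_of_forall_mem_zpowers ha, hAd]
  have hob : orderOf (b : G) = d := by
    rw [Subgroup.orderOf_coe, orderOf_eq_card_of_forall_mem_zpowers hb, hBd]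
  obtain ⟨g, hg⟩ := exists_conj_mem_zpowers d (a : G) (b : G) hd hoa hob
  refine ⟨g, ?_⟩
  symm
  apply Subgroup.eq_of_le_of_card_ge
  · rw [Subgroup.map_le_iff_le_comap]
    intro x hx
    rw [Subgroup.mem_comap]
    show g * x * g⁻¹ ∈ B
    obtain ⟨k, hk⟩ := Subgroup.mem_zpowers_iff.mp (ha ⟨x, hx⟩)
    have hk' : (a : G) ^ k = x := by
      have h1 := congrArg Subtype.val hk
      rw [Subgroup.coe_zpow] at h1
      exact h1
    rw [← hk', ← conj_zpow]
    exact zpow_mem ((Subgroup.zpowers_le.mpr b.2) hg) k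
  · rw [Subgroup.card_map_of_injective (MulAut.conj g).injective, hAd, hBd]

end cyc

end Cfsg.Agent.Lib.Helper17
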