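import Mathlib

set_option autoImplicit false

/-!
# Commuting elements of prime order in `GL₇` over a finite field, `p` a primitive prime divisor
of `q ^ 6 - 1`
-/

namespace Cfsg.Agent.Lib.Helper17

section psum

variable {R : Type*} [Ring R] {p : ℕ} [Fact p.Prime]

/-- the sum of the powers of an element of order dividing `p` -/
def psum (p : ℕ) [Fact p.Prime] (g : R) : R := ∑ i : ZMod p, g ^ i.val

theorem mul_psum (g : R) (hg : g ^ p = 1) : g * psum p g = psum p g := by
  have hp : p.Prime := Fact.out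
  haveI : Fact (1 < p) := ⟨hp.one_lt⟩
  unfold psum
  rw [Finset.mul_sum]
  rw [← Equiv.sum_comp (Equiv.addRight (1 : ZMod p)) (fun i => g ^ i.val)]
  apply Finset.sum_congr rfl
  intro i _
  rw [Equiv.coe_addRight, ZMod.val_add, ZMod.val_one, ← pow_eq_pow_mod _ hg, pow_succ']

theorem sum_psum (z x : R) (hzx : z * x = x * z) (hz : z ^ p = 1) :
    ∑ k : ZMod p, psum p (x * z ^ k.val) = (p : R) + (psum p x - 1) * psum p z := by
  have hp : p.Prime := Fact.out
  have hc : Commute x z := hzx.symm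
  have h1 : ∀ j : ZMod p, ∑ k : ZMod p, z ^ (k.val * j.val) =
      psum p z + (if j = 0 then (p : R) - psum p z else 0) := by
    intro j
    by_cases hj : j = 0
    · rw [if_pos hj, hj, ZMod.val_zero]
      simp
    · rw [if_neg hj, add_zero]
      unfold psum
      rw [← Equiv.sum_comp (Equiv.mulRight₀ j hj) (fun i => z ^ i.val)]
      apply Finset.sum_congr rfl
      intro k _
      rw [Equiv.mulRight₀_apply, ZMod.val_mul, ← pow_eq_pow_mod _ hz]
  have h2 : ∀ k : ZMod p, psum p (x * z ^ k.val) = ∑ j : ZMod p, x ^ j.val * z ^ (k.val * j.val) := by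
    intro k
    unfold psum
    apply Finset.sum_congr rfl
    intro j _
    rw [(hc.pow_right k.val).mul_pow, ← pow_mul]
  simp_rw [h2]
  rw [Finset.sum_comm]
  simp_rw [← Finset.mul_sum, h1, mul_add]
  rw [Finset.sum_add_distrib, ← Finset.sum_mul]
  have h3 : ∑ j : ZMod p, x ^ j.val * (if j = 0 then (p : R) - psum p z else 0) =
      (p : R) - psum p z := by
    simp
  rw [h3]
  unfold psum
  noncomm_ring

end psum

section fix

variable {K : Type*} [Field K] [Fintype K]

/-- the fixed space of a matrix -/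
def fixSp (g : Matrix (Fin 7) (Fin 7) K) : Submodule K (Fin 7 → K) :=
  LinearMap.ker (Matrix.toLin' g - LinearMap.id)

omit [Fintype K] in
theorem mem_fixSp (g : Matrix (Fin 7) (Fin 7) K) (v : Fin 7 → K) :
    v ∈ fixSp g ↔ g.mulVec v = v := by
  unfold fixSp
  rw [LinearMap.mem_ker, LinearMap.sub_apply, Matrix.toLin'_apply, LinearMap.id_apply, sub_eq_zero]

omit [Fintype K] in
theorem psum_mem_fixSp (p : ℕ) [Fact p.Prime] (g : Matrix (Fin 7) (Fin 7) K) (hg : g ^ p = 1)
    (v : Fin 7 → K) : (psum p g).mulVec v ∈ fixSp g := by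
  rw [mem_fixSp, Matrix.mulVec_mulVec, mul_psum g hg]

theorem dvd_pow_sub_one_of_modEq (q p a b : ℕ) (hp : p.Prime) (hq : ¬ p ∣ q) (hab : b ≤ a)
    (h : q ^ a ≡ q ^ b [MOD p]) : p ∣ q ^ (a - b) - 1 := by
  have hq0 : 0 < q := Nat.pos_of_ne_zero (by rintro rfl; exact hq (dvd_zero p))
  have h1 : p ∣ q ^ a - q ^ b :=
    (Nat.modEq_iff_dvd' (Nat.pow_le_pow_right hq0 hab)).mp h.symm
  have h2 : q ^ a - q ^ b = q ^ b * (q ^ (a - b) - 1) := by
    rw [Nat.mul_sub, mul_one, ← pow_add, Nat.add_sub_cancel' hab]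
  rw [h2] at h1
  rcases (Nat.Prime.dvd_mul hp).mp h1 with h3 | h3
  · exact absurd (hp.dvd_of_dvd_pow h3) hq
  · exact h3

theorem card_submodule (W : Submodule K (Fin 7 → K)) :
    Nat.card ↥W = Fintype.card K ^ Module.finrank K ↥W := by
  classical
  rw [Nat.card_eq_fintype_card]
  exact Module.card_eq_pow_finrank

/-- the fixed space of a nontrivial element of order `p` is a line -/
theorem fixSp_finrank (p : ℕ) [Fact p.Prime] (hq : ¬ p ∣ Fintype.card K)
    (hp6 : ∀ i, 0 < i → i ≤ 7 → p ∣ Fintype.card K ^ i - 1 → i = 6)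
    (g : Matrix (Fin 7) (Fin 7) K) (hg : g ^ p = 1) (hg1 : g ≠ 1) :
    Module.finrank K ↥(fixSp g) = 1 := by
  classical
  have hp : p.Prime := Fact.out
  obtain ⟨f, hfdef⟩ : ∃ f : Function.End (Fin 7 → K), f = fun v => g.mulVec v := ⟨_, rfl⟩
  have hfk : ∀ k : ℕ, ∀ v : Fin 7 → K, (f ^ k) v = (g ^ k).mulVec v := by
    intro k
    induction k with
    | zero =>
      intro v
      rw [pow_zero, pow_zero, Matrix.one_mulVec]
      rfl
    | succ k ih =>
      intro v
      rw [pow_succ, pow_succ]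
      show (f ^ k) (f v) = _
      rw [ih, hfdef, Matrix.mulVec_mulVec]
  have hf : f ^ p ^ 1 = 1 := by
    funext v
    rw [pow_one, hfk, hg, Matrix.one_mulVec]
    rfl
  have hmod := Equiv.Perm.card_fixedPoints_modEq (p := p) (n := 1) hf
  rw [Fintype.card_eq_nat_card, Fintype.card_eq_nat_card] at hmod
  have hV : Nat.card (Fin 7 → K) = Fintype.card K ^ 7 := by
    rw [Nat.card_eq_fintype_card]
    simp
  have hF : Nat.card ↥(Function.fixedPoints f) =
      Fintype.card K ^ Module.finrank K ↥(fixSp g) := by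
    rw [← card_submodule]
    apply Nat.card_congr
    apply Equiv.subtypeEquivRight
    intro v
    show f v = v ↔ v ∈ fixSp g
    rw [hfdef]
    exact (mem_fixSp g v).symm
  rw [hV, hF] at hmod
  have hle : Module.finrank K ↥(fixSp g) ≤ 7 := by
    have h1 := Submodule.finrank_le (fixSp g)
    rw [Module.finrank_fin_fun] at h1
    exact h1
  have hne : Module.finrank K ↥(fixSp g) ≠ 7 := by
    intro h7
    have htop : fixSp g = ⊤ := by
      apply Submodule.eq_top_of_finrank_eq
      rw [h7, Module.finrank_fin_fun]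
    apply hg1
    apply Matrix.mulVec_injective
    funext v
    rw [Matrix.one_mulVec]
    exact (mem_fixSp g v).mp (by rw [htop]; exact Submodule.mem_top)
  have h1 := dvd_pow_sub_one_of_modEq _ p 7 _ hp hq hle hmod
  have h2 := hp6 (7 - Module.finrank K ↥(fixSp g)) (by omega) (by omega) h1
  omega

/-- commuting nontrivial elements of order `p` have the same fixed line -/
theorem fixSp_le (p : ℕ) [Fact p.Prime] (hq : ¬ p ∣ Fintype.card K)
    (hp6 : ∀ i, 0 < i → i ≤ 7 → p ∣ Fintype.card K ^ i - 1 → i = 6)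
    (u z : Matrix (Fin 7) (Fin 7) K) (huz : u * z = z * u) (hu : u ^ p = 1) (hu1 : u ≠ 1)
    (hz : z ^ p = 1) : fixSp u ≤ fixSp z := by
  classical
  have hp : p.Prime := Fact.out
  have hinv : ∀ v : Fin 7 → K, v ∈ fixSp u → z.mulVec v ∈ fixSp u := by
    intro v hv
    rw [mem_fixSp] at hv ⊢
    rw [Matrix.mulVec_mulVec, huz, ← Matrix.mulVec_mulVec, hv]
  obtain ⟨f, hfdef⟩ : ∃ f : Function.End ↥(fixSp u),
      f = fun v => ⟨z.mulVec v.1, hinv v.1 v.2⟩ := ⟨_, rfl⟩
  have hfv : ∀ w : ↥(fixSp u), ((f w : ↥(fixSp u)) : Fin 7 → K) = z.mulVec w.1 := by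
    intro w
    rw [hfdef]
  have hfk : ∀ k : ℕ, ∀ v : ↥(fixSp u), ((f ^ k) v : Fin 7 → K) = (z ^ k).mulVec v.1 := by
    intro k
    induction k with
    | zero =>
      intro v
      rw [pow_zero, pow_zero, Matrix.one_mulVec]
      rfl
    | succ k ih =>
      intro v
      rw [pow_succ, pow_succ]
      show (((f ^ k) (f v) : ↥(fixSp u)) : Fin 7 → K) = _
      rw [ih, hfdef, Matrix.mulVec_mulVec]
  have hf : f ^ p ^ 1 = 1 := by
    funext v
    apply Subtype.ext
    rw [pow_one, hfk, hz, Matrix.one_mulVec]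
    rfl
  have hmod := Equiv.Perm.card_fixedPoints_modEq (p := p) (n := 1) hf
  rw [Fintype.card_eq_nat_card, Fintype.card_eq_nat_card] at hmod
  have hF : Nat.card ↥(Function.fixedPoints f) = Nat.card ↥(fixSp u ⊓ fixSp z) := by
    apply Nat.card_congr
    refine
      { toFun := fun v => ⟨v.1.1, Submodule.mem_inf.mpr ⟨v.1.2, (mem_fixSp z _).mpr ?_⟩⟩
        invFun := fun w => ⟨⟨w.1, (Submodule.mem_inf.mp w.2).1⟩, ?_⟩
        left_inv := fun v => rfl
        right_inv := fun w => rfl }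
    · have h1 : f v.1 = v.1 := v.2
      rw [← hfv, h1]
    · show f ⟨w.1, (Submodule.mem_inf.mp w.2).1⟩ = ⟨w.1, (Submodule.mem_inf.mp w.2).1⟩
      apply Subtype.ext
      rw [hfv]
      exact (mem_fixSp z _).mp (Submodule.mem_inf.mp w.2).2
  have h1 := fixSp_finrank p hq hp6 u hu hu1
  rw [hF, card_submodule, card_submodule, h1] at hmod
  have hle : Module.finrank K ↥(fixSp u ⊓ fixSp z) ≤ 1 := by
    rw [← h1]
    exact Submodule.finrank_mono inf_le_left
  have h2 : Module.finrank K ↥(fixSp u ⊓ fixSp z) = 1 := by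
    by_contra h3
    have h4 : Module.finrank K ↥(fixSp u ⊓ fixSp z) = 0 := by omega
    rw [h4] at hmod
    have h5 := dvd_pow_sub_one_of_modEq _ p 1 0 hp hq (by omega) hmod
    have h6 := hp6 1 (by omega) (by omega) h5
    omega
  have h3 : fixSp u ⊓ fixSp z = fixSp u :=
    Submodule.eq_of_le_of_finrank_eq inf_le_left (by rw [h2, h1])
  rw [← h3]
  exact inf_le_right

/-- two commuting elements of order dividing `p` of `GL₇(q)`, `p` a primitive prime divisor of
`q ^ 6 - 1`, generate a cyclic group -/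
theorem gl7_star (p : ℕ) [Fact p.Prime] (hpK : (p : K) ≠ 0) (hq : ¬ p ∣ Fintype.card K)
    (hp6 : ∀ i, 0 < i → i ≤ 7 → p ∣ Fintype.card K ^ i - 1 → i = 6)
    (z x : Matrix (Fin 7) (Fin 7) K) (hzx : z * x = x * z) (hz : z ^ p = 1) (hz1 : z ≠ 1)
    (hx : x ^ p = 1) : ∃ k : ℕ, x * z ^ k = 1 := by
  by_contra hne
  rw [not_exists] at hne
  have hc : Commute x z := hzx.symm
  have hup : ∀ k : ℕ, (x * z ^ k) ^ p = 1 := by
    intro k
    rw [(hc.pow_right k).mul_pow, hx, ← pow_mul, mul_comm, pow_mul, hz, one_pow, mul_one]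
  have hu : ∀ k : ℕ, fixSp (x * z ^ k) ≤ fixSp z := by
    intro k
    apply fixSp_le p hq hp6 (x * z ^ k) z _ (hup k) (hne k) hz
    rw [mul_assoc, ← pow_succ, ← mul_assoc, hzx, mul_assoc, ← pow_succ']
  have htop : fixSp z = ⊤ := by
    rw [eq_top_iff]
    intro v _
    have h1 := sum_psum (p := p) z x hzx hz
    have h2 : (p : K) • v = (∑ k : ZMod p, psum p (x * z ^ k.val)).mulVec v -
        (psum p x).mulVec ((psum p z).mulVec v) + (psum p z).mulVec v := by
      rw [h1, Matrix.add_mulVec, sub_mul, one_mul, Matrix.sub_mulVec, Matrix.mulVec_mulVec,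
        Matrix.natCast_mulVec]
      abel
    have h3 : (p : K) • v ∈ fixSp z := by
      rw [h2, Matrix.sum_mulVec]
      refine Submodule.add_mem _ (Submodule.sub_mem _ (Submodule.sum_mem _ fun k _ =>
        hu k.val (psum_mem_fixSp p _ (hup k.val) v)) ?_) (psum_mem_fixSp p z hz v)
      have h4 := hu 0
      rw [pow_zero, mul_one] at h4
      exact h4 (psum_mem_fixSp p x hx _)
    have h4 := Submodule.smul_mem (fixSp z) (p : K)⁻¹ h3
    rwa [smul_smul, inv_mul_cancel₀ hpK, one_smul] at h4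
  have h5 := fixSp_finrank p hq hp6 z hz hz1
  rw [htop, finrank_top, Module.finrank_fin_fun] at h5
  omega

end fix

end Cfsg.Agent.Lib.Helper17
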