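import Cfsg.Agent.Lib.Helper17.ReeO
import Cfsg.Agent.Lib.Helper18.ReeFinal
import Cfsg.Agent.Lib.Helper36.ChevAutD
import Cfsg.Agent.Lib.Helper83.StHom

set_option autoImplicit false

/-!
# The small Ree groups: the rank one subgroup centralising the involution of `H ∩ ²G₂`

The elements `X(u) = x_{a+b}(u^θ) x_{3a+b}(u)` and `Y(u) = x_{-a-b}(u^θ) x_{-3a-b}(u)` satisfy
the rank one Steinberg relations, so that they generate a copy of `PSL₂(K)`.
-/

namespace Cfsg.Agent.Lib.Helper17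

open Cfsg Cfsg.Lie

open Cfsg.Agent.Lib.Helper18 (xU coe_xU wordU coe_wordU g2mem g2x coe_g2x g2n g2h coe_g2n coe_g2h
  g2h_eq g2n_eq nT nT_eq nT_one nT_eq_hU_mul nU hU RootAct exists_wordPerm iwF intEqChk
  wordU_int_congr wordU_append g2_nT_mem_monomial g2_xU_root_inj g2n1 g2n1_eq_word)

section rel

variable {K : Type*} [Field K]

/-- `n_r(1) x_r(u) = x_{-r}(-u) n_r(1)`, from its instance `u = 1` -/
theorem g2n_one_conj [CharP K 3] (r r' : ℕ) (hr : r < 12) (hr' : r' < 12)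
    (hneg : chevG2.neg r = r')
    (chk : intEqChk chevG2 3 [(r, 1), (r', -1), (r, 1), (r, 1)]
      [(r', -1), (r, 1), (r', -1), (r, 1)] = true) (u : K) :
    g2n r 1 * g2x r u = g2x r' (-u) * g2n r 1 := by
  obtain ⟨l, hl⟩ := exists_wordPerm chevG2 g2mem _ (g2_nT_mem_monomial r hr (1 : K) one_ne_zero)
  obtain ⟨c, hc, hconj⟩ := hl.conj r hr
  have hn : nT chevG2 g2mem r (1 : K) =
      xU chevG2 g2mem r 1 * (xU chevG2 g2mem r' (-1) * xU chevG2 g2mem r 1) := by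
    rw [nT_eq, hneg, inv_one]
  have h1 : nT chevG2 g2mem r (1 : K) * xU chevG2 g2mem r 1 =
      xU chevG2 g2mem r' (-1) * nT chevG2 g2mem r 1 := by
    have h2 := wordU_int_congr (F := K) 3 chevG2 g2mem _ _ chk
    simp only [wordU, iwF, List.map_cons, List.map_nil, List.prod_cons, List.prod_nil, mul_one,
      Int.cast_one, Int.cast_neg] at h2
    rw [hn]
    simp only [mul_assoc]
    exact h2
  have h3 := hconj 1
  rw [h1, mul_one] at h3
  have h4 := mul_right_cancel h3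
  have h5 : Cfsg.Agent.Lib.Helper18.wordPerm chevG2 g2mem l r = r' :=
    (g2_xU_root_inj r' _ hr' (hl.lt r hr) (-1) c (neg_ne_zero.mpr one_ne_zero) h4).symm
  rw [h5] at h4
  have h6 : c = -1 := (Cfsg.Agent.Lib.Helper36.xU_injective chevG2 g2mem r' hr' _ _ h4).symm
  apply Subtype.ext
  have h7 := hconj u
  rw [h5, h6, neg_one_mul] at h7
  exact h7

theorem g2n_eq_h_mul (r : ℕ) (hr : r < 12) (t : K) : g2n r t = g2h r t * g2n r 1 := by
  apply Subtype.ext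
  exact nT_eq_hU_mul chevG2 g2mem r hr t

/-- `n_r(t) x_r(u) = x_{-r}(-t⁻² u) n_r(t)` -/
theorem g2n_conj [CharP K 3] (r r' : ℕ) (hr : r < 12) (hr' : r' < 12)
    (hneg : chevG2.neg r = r')
    (chk : intEqChk chevG2 3 [(r, 1), (r', -1), (r, 1), (r, 1)]
      [(r', -1), (r, 1), (r', -1), (r, 1)] = true)
    (hχ : (chevG2.coroot.getD r #[]).getD 0 0 * chevG2.cartan 0 r' +
      (chevG2.coroot.getD r #[]).getD 1 0 * chevG2.cartan 1 r' = -2)
    (t u : K) (ht : t ≠ 0) :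
    g2n r t * g2x r u = g2x r' (-(t⁻¹ ^ 2 * u)) * g2n r t := by
  rw [g2n_eq_h_mul r hr t, mul_assoc, g2n_one_conj r r' hr hr' hneg chk u, ← mul_assoc,
    g2h_eq_g2t r hr t ht, g2t_conj _ _ (zpow_ne_zero _ ht) (zpow_ne_zero _ ht) r' hr', mul_assoc]
  congr 2
  unfold g2chi
  rw [← zpow_mul, ← zpow_mul, ← zpow_add₀ ht, hχ, zpow_neg, zpow_ofNat, inv_pow]
  ring

set_option maxRecDepth 100000 in
theorem g2n8_chk : intEqChk chevG2 3 [(8, 1), (3, -1), (8, 1), (8, 1)]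
    [(3, -1), (8, 1), (3, -1), (8, 1)] = true := by decide +kernel

set_option maxRecDepth 100000 in
theorem g2n10_chk : intEqChk chevG2 3 [(10, 1), (1, -1), (10, 1), (10, 1)]
    [(1, -1), (10, 1), (1, -1), (10, 1)] = true := by decide +kernel

set_option maxRecDepth 100000 in
theorem g2n3_chk : intEqChk chevG2 3 [(3, 1), (8, -1), (3, 1), (3, 1)]
    [(8, -1), (3, 1), (8, -1), (3, 1)] = true := by decide +kernel

set_option maxRecDepth 100000 in
theorem g2n1_chk : intEqChk chevG2 3 [(1, 1), (10, -1), (1, 1), (1, 1)]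
    [(10, -1), (1, 1), (10, -1), (1, 1)] = true := by decide +kernel

theorem g2n8_conj [CharP K 3] (t u : K) (ht : t ≠ 0) :
    g2n 8 t * g2x 8 u = g2x 3 (-(t⁻¹ ^ 2 * u)) * g2n 8 t :=
  g2n_conj 8 3 (by decide) (by decide) (by decide +kernel) g2n8_chk (by decide +kernel) t u ht

theorem g2n10_conj [CharP K 3] (t u : K) (ht : t ≠ 0) :
    g2n 10 t * g2x 10 u = g2x 1 (-(t⁻¹ ^ 2 * u)) * g2n 10 t :=
  g2n_conj 10 1 (by decide) (by decide) (by decide +kernel) g2n10_chk (by decide +kernel) t u ht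

theorem g2n3_conj [CharP K 3] (t u : K) (ht : t ≠ 0) :
    g2n 3 t * g2x 3 u = g2x 8 (-(t⁻¹ ^ 2 * u)) * g2n 3 t :=
  g2n_conj 3 8 (by decide) (by decide) (by decide +kernel) g2n3_chk (by decide +kernel) t u ht

theorem g2n1_conj [CharP K 3] (t u : K) (ht : t ≠ 0) :
    g2n 1 t * g2x 1 u = g2x 10 (-(t⁻¹ ^ 2 * u)) * g2n 1 t :=
  g2n_conj 1 10 (by decide) (by decide) (by decide +kernel) g2n1_chk (by decide +kernel) t u ht

/-- the root elements `X(u) = x_{a+b}(u^θ) x_{3a+b}(u)` of the rank one subgroup -/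
def reeX (e : ℕ) (u : K) : ↥(chevG2.group K) := g2x 8 (u ^ e) * g2x 10 u

/-- the root elements `Y(u) = x_{-a-b}(u^θ) x_{-3a-b}(u)` of the rank one subgroup -/
def reeY (e : ℕ) (u : K) : ↥(chevG2.group K) := g2x 3 (u ^ e) * g2x 1 u

theorem reeX_eq (e : ℕ) (he : e ≠ 0) (u : K) : reeX e u = reeUg e 0 u 0 :=
  (reeUg_0u0 e he u).symm

theorem reeY_eq (e : ℕ) (he : Odd e) (u : K) : reeY e u = reeVg e 0 (-u) 0 := by
  have he0 : e ≠ 0 := by
    rintro rfl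
    exact absurd he (by decide)
  rw [reeVg_0u0 e he0, he.neg_pow, neg_neg, neg_neg]
  rfl

theorem reeX_add [CharP K 3] (m : ℕ) (t u : K) :
    reeX (3 ^ m) t * reeX (3 ^ m) u = reeX (3 ^ m) (t + u) := by
  have : Fact (Nat.Prime 3) := ⟨Nat.prime_three⟩
  unfold reeX
  rw [add_pow_char_pow, ← g2x_add 8 (by decide), ← g2x_add 10 (by decide)]
  calc g2x 8 (t ^ 3 ^ m) * g2x 10 t * (g2x 8 (u ^ 3 ^ m) * g2x 10 u)
      = g2x 8 (t ^ 3 ^ m) * ((g2x 10 t * g2x 8 (u ^ 3 ^ m)) * g2x 10 u) := by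
        simp only [mul_assoc]
    _ = g2x 8 (t ^ 3 ^ m) * ((g2x 8 (u ^ 3 ^ m) * g2x 10 t) * g2x 10 u) := by
        rw [(c_8_10 (u ^ 3 ^ m) t).eq]
    _ = _ := by simp only [mul_assoc]

theorem reeY_add [CharP K 3] (m : ℕ) (t u : K) :
    reeY (3 ^ m) t * reeY (3 ^ m) u = reeY (3 ^ m) (t + u) := by
  have : Fact (Nat.Prime 3) := ⟨Nat.prime_three⟩
  unfold reeY
  rw [add_pow_char_pow, ← g2x_add 3 (by decide), ← g2x_add 1 (by decide)]
  calc g2x 3 (t ^ 3 ^ m) * g2x 1 t * (g2x 3 (u ^ 3 ^ m) * g2x 1 u)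
      = g2x 3 (t ^ 3 ^ m) * ((g2x 1 t * g2x 3 (u ^ 3 ^ m)) * g2x 1 u) := by
        simp only [mul_assoc]
    _ = g2x 3 (t ^ 3 ^ m) * ((g2x 3 (u ^ 3 ^ m) * g2x 1 t) * g2x 1 u) := by
        rw [(c_3_1 (u ^ 3 ^ m) t).eq]
    _ = _ := by simp only [mul_assoc]

theorem g2_neg3 : chevG2.neg 3 = 8 := by decide +kernel

theorem g2_neg1 : chevG2.neg 1 = 10 := by decide +kernel

theorem g2n_3_1 (s w : K) : g2n 3 s * g2n 1 w =
    (g2x 3 s * g2x 1 w) * (g2x 8 (-s⁻¹) * g2x 10 (-w⁻¹)) * (g2x 3 s * g2x 1 w) := by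
  rw [g2n_eq, g2n_eq, g2_neg3, g2_neg1]
  exact nn_comm _ _ _ _ (c_3_1 s w) (c_8_1 _ w) (c_3_10 s _)

/-- `X(t) Y(-t⁻¹) X(t) = n_{a+b}(t^θ) n_{3a+b}(t)` -/
theorem reeN_eq (e : ℕ) (he : Odd e) (t : K) :
    reeX e t * reeY e (-t⁻¹) * reeX e t = g2n 8 (t ^ e) * g2n 10 t := by
  rw [g2n_8_10]
  unfold reeX reeY
  rw [he.neg_pow, inv_pow]

/-- `Y(t) X(-t⁻¹) Y(t) = n_{-a-b}(t^θ) n_{-3a-b}(t)` -/
theorem reeN'_eq (e : ℕ) (he : Odd e) (t : K) :
    reeY e t * reeX e (-t⁻¹) * reeY e t = g2n 3 (t ^ e) * g2n 1 t := by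
  rw [g2n_3_1]
  unfold reeX reeY
  rw [he.neg_pow, inv_pow]

theorem rank_one_conj {G : Type*} [Group G] (A B x y x' y' : G) (h1 : Commute B x)
    (h2 : Commute A y') (hA : A * x = x' * A) (hB : B * y = y' * B) :
    A * B * (x * y) * (A * B)⁻¹ = x' * y' := by
  have h : A * B * (x * y) = x' * y' * (A * B) := by
    calc A * B * (x * y) = A * ((B * x) * y) := by simp only [mul_assoc]
      _ = A * ((x * B) * y) := by rw [h1.eq]
      _ = (A * x) * (B * y) := by simp only [mul_assoc]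
      _ = (x' * A) * (y' * B) := by rw [hA, hB]
      _ = x' * ((A * y') * B) := by simp only [mul_assoc]
      _ = x' * ((y' * A) * B) := by rw [h2.eq]
      _ = x' * y' * (A * B) := by simp only [mul_assoc]
  rw [h, mul_inv_cancel_right]

theorem ree_pow_aux (e : ℕ) (he : Odd e) (t u : K) :
    -((t ^ e)⁻¹ ^ 2 * u ^ e) = (-(t⁻¹ ^ 2 * u)) ^ e := by
  rw [he.neg_pow, mul_pow, inv_pow, inv_pow, inv_pow, ← pow_mul, ← pow_mul, mul_comm e 2]

/-- the first rank one relation -/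
theorem ree_rel1 [CharP K 3] (e : ℕ) (he : Odd e) (t u : K) (ht : t ≠ 0) :
    (reeX e t * reeY e (-t⁻¹) * reeX e t) * reeX e u * (reeX e t * reeY e (-t⁻¹) * reeX e t)⁻¹ =
      reeY e (-(t⁻¹ ^ 2 * u)) := by
  rw [reeN_eq e he]
  have hte : t ^ e ≠ 0 := pow_ne_zero _ ht
  have h1 : Commute (g2n 10 t) (g2x 8 (u ^ e)) := by
    rw [g2n_eq, g2_neg10]
    exact Commute.mul_left (c_8_10 _ _).symm
      (Commute.mul_left (c_8_1 _ _).symm (c_8_10 _ _).symm)
  have h2 : Commute (g2n 8 (t ^ e)) (g2x 1 (-(t⁻¹ ^ 2 * u))) := by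
    rw [g2n_eq, g2_neg8]
    exact Commute.mul_left (c_8_1 _ _) (Commute.mul_left (c_3_1 _ _) (c_8_1 _ _))
  have h3 := rank_one_conj _ _ _ _ _ _ h1 h2 (g2n8_conj (t ^ e) (u ^ e) hte) (g2n10_conj t u ht)
  unfold reeX reeY
  rw [h3, ree_pow_aux e he]

/-- the second rank one relation -/
theorem ree_rel2 [CharP K 3] (e : ℕ) (he : Odd e) (t u : K) (ht : t ≠ 0) :
    (reeY e t * reeX e (-t⁻¹) * reeY e t) * reeY e u * (reeY e t * reeX e (-t⁻¹) * reeY e t)⁻¹ =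
      reeX e (-(t⁻¹ ^ 2 * u)) := by
  rw [reeN'_eq e he]
  have hte : t ^ e ≠ 0 := pow_ne_zero _ ht
  have h1 : Commute (g2n 1 t) (g2x 3 (u ^ e)) := by
    rw [g2n_eq, g2_neg1]
    exact Commute.mul_left (c_3_1 _ _).symm
      (Commute.mul_left (c_3_10 _ _).symm (c_3_1 _ _).symm)
  have h2 : Commute (g2n 3 (t ^ e)) (g2x 10 (-(t⁻¹ ^ 2 * u))) := by
    rw [g2n_eq, g2_neg3]
    exact Commute.mul_left (c_3_10 _ _) (Commute.mul_left (c_8_10 _ _) (c_3_10 _ _))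
  have h3 := rank_one_conj _ _ _ _ _ _ h1 h2 (g2n3_conj (t ^ e) (u ^ e) hte) (g2n1_conj t u ht)
  unfold reeX reeY
  rw [h3, ree_pow_aux e he]

set_option maxRecDepth 100000 in
theorem g2n1_sq_chk : intEqChk chevG2 3
    [(8, 1), (3, -1), (8, 1), (10, 1), (1, -1), (10, 1), (8, 1), (3, -1), (8, 1), (10, 1),
      (1, -1), (10, 1)] [] = true := by decide +kernel

/-- `n₁² = 1` -/
theorem g2n1_sq [CharP K 3] : (g2n1 : ↥(chevG2.group K)) * g2n1 = 1 := by
  apply Subtype.ext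
  rw [Subgroup.coe_mul, g2n1_eq_word, ← wordU_append]
  have h := wordU_int_congr (F := K) 3 chevG2 g2mem _ _ g2n1_sq_chk
  have e : iwF K [(8, 1), (3, -1), (8, 1), (10, 1), (1, -1), (10, 1)] ++
      iwF K [(8, 1), (3, -1), (8, 1), (10, 1), (1, -1), (10, 1)] =
      iwF K [(8, 1), (3, -1), (8, 1), (10, 1), (1, -1), (10, 1), (8, 1), (3, -1), (8, 1),
        (10, 1), (1, -1), (10, 1)] := by
    unfold iwF
    rw [← List.map_append]
    rfl
  rw [e, h]
  rfl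

theorem reeN_one (e : ℕ) (he : Odd e) :
    reeX e (1 : K) * reeY e (-1) * reeX e 1 = g2n1 := by
  have h := reeN_eq e he (1 : K)
  rw [inv_one, one_pow] at h
  exact h

/-- the relation `(X(1) Y(-1) X(1))² = 1` -/
theorem ree_hw [CharP K 3] (e : ℕ) (he : Odd e) :
    (reeX e (1 : K) * reeY e (-1) * reeX e 1) * (reeX e 1 * reeY e (-1) * reeX e 1) = 1 := by
  rw [reeN_one e he]
  exact g2n1_sq

theorem g2x_pair_eq_one [CharP K 3] (a b : ℕ) (ha : a < 12) (hb : b < 12) (hab : a ≠ b)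
    (s w : K) (h : g2x a s * g2x b w = 1) : s = 0 := by
  by_contra hs
  have h2 : g2x b w * g2x b (-w) = 1 := by rw [g2x_add b hb, add_neg_cancel, g2x_zero]
  have h1 : g2x a s = g2x b (-w) := by
    calc g2x a s = g2x a s * (g2x b w * g2x b (-w)) := by rw [h2, mul_one]
      _ = g2x b (-w) := by rw [← mul_assoc, h, one_mul]
  exact hab (g2_xU_root_inj a b ha hb s (-w) hs (congrArg Subtype.val h1))

theorem reeX_mem_pos (e : ℕ) (he : e ≠ 0) (u : K) :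
    ((reeX e u : ↥(chevG2.group K)) : GL chevG2.Idx K) ∈ chevG2.posUnipotent K := by
  rw [reeX_eq e he]
  exact reeUg_mem_unip e 0 u 0

theorem reeY_mem_neg (e : ℕ) (he : Odd e) (u : K) :
    ((reeY e u : ↥(chevG2.group K)) : GL chevG2.Idx K) ∈ chevG2.negUnipotent K := by
  rw [reeY_eq e he, coe_reeVg]
  exact Cfsg.Agent.Lib.Helper18.reeV_mem_neg e 0 (-u) 0

theorem reeX_mem (e : ℕ) (he : e ≠ 0) (u : K) :
    ((reeX e u : ↥(chevG2.group K)) : GL chevG2.Idx K) ∈ twistedG2 K e := by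
  rw [reeX_eq e he]
  exact reeUg_mem e 0 u 0

theorem reeY_mem (e : ℕ) (he : Odd e) (u : K) :
    ((reeY e u : ↥(chevG2.group K)) : GL chevG2.Idx K) ∈ twistedG2 K e := by
  rw [reeY_eq e he]
  exact reeVg_mem e 0 (-u) 0

theorem reeX_eq_one [CharP K 3] (e : ℕ) (he : e ≠ 0) (t : K) (h : reeX e t = 1) : t = 0 :=
  (pow_eq_zero_iff he).mp (g2x_pair_eq_one 8 10 (by decide) (by decide) (by decide) _ _ h)

theorem reeY_eq_one [CharP K 3] (e : ℕ) (he : e ≠ 0) (t : K) (h : reeY e t = 1) : t = 0 :=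
  (pow_eq_zero_iff he).mp (g2x_pair_eq_one 3 1 (by decide) (by decide) (by decide) _ _ h)

/-- `X(t) = Y(u)` only for `t = u = 0` -/
theorem ree_xy [CharP K 3] (e : ℕ) (he : Odd e) (t u : K) (h : reeX e t = reeY e u) :
    t = 0 ∧ u = 0 := by
  have he0 : e ≠ 0 := by
    rintro rfl
    exact absurd he (by decide)
  have h1 : ((reeX e t : ↥(chevG2.group K)) : GL chevG2.Idx K) ∈
      chevG2.posUnipotent K ⊓ chevG2.negUnipotent K :=
    Subgroup.mem_inf.mpr ⟨reeX_mem_pos e he0 t, by rw [h]; exact reeY_mem_neg e he u⟩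
  rw [Cfsg.Agent.Lib.Helper36.pos_inf_neg chevG2 g2mem, Subgroup.mem_bot] at h1
  have hX1 : reeX e t = 1 := Subtype.ext h1
  have hY1 : reeY e u = 1 := by rw [← h]; exact hX1
  exact ⟨reeX_eq_one e he0 t hX1, reeY_eq_one e he0 u hY1⟩

end rel

section iso

/-- a group generated by a rank one Steinberg pair in which `(x(1) y(-1) x(1))² = 1` is
`PSL₂(F)` -/
theorem psl_iso_closure {Γ : Type*} [Group Γ] {F : Type*} [Field F] [Finite F] (x y : F → Γ)
    (x_add : ∀ t u, x t * x u = x (t + u)) (y_add : ∀ t u, y t * y u = y (t + u))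
    (rel1 : ∀ t u, t ≠ 0 →
      (x t * y (-t⁻¹) * x t) * x u * (x t * y (-t⁻¹) * x t)⁻¹ = y (-(t⁻¹ ^ 2 * u)))
    (rel2 : ∀ t u, t ≠ 0 →
      (y t * x (-t⁻¹) * y t) * y u * (y t * x (-t⁻¹) * y t)⁻¹ = x (-(t⁻¹ ^ 2 * u)))
    (hxy : ∀ t u, x t = y u → t = 0 ∧ u = 0)
    (hw : (x 1 * y (-1) * x 1) * (x 1 * y (-1) * x 1) = 1) :
    Nonempty (↥(Subgroup.closure (Set.range x ∪ Set.range y)) ≃*
      Matrix.ProjectiveSpecialLinearGroup (Fin 2) F) := by
  have hx : ∀ t, x t ∈ Subgroup.closure (Set.range x ∪ Set.range y) :=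
    fun t => Subgroup.subset_closure (Or.inl ⟨t, rfl⟩)
  have hy : ∀ t, y t ∈ Subgroup.closure (Set.range x ∪ Set.range y) :=
    fun t => Subgroup.subset_closure (Or.inr ⟨t, rfl⟩)
  refine Cfsg.Agent.Lib.Helper83.st_psl_iso
    (fun t => (⟨x t, hx t⟩ : ↥(Subgroup.closure (Set.range x ∪ Set.range y))))
    (fun t => ⟨y t, hy t⟩) ?_ ?_ ?_ ?_ ?_ ?_ ?_
  · intro t u
    exact Subtype.ext (x_add t u)
  · intro t u
    exact Subtype.ext (y_add t u)
  · intro t u ht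
    exact Subtype.ext (rel1 t u ht)
  · intro t u ht
    exact Subtype.ext (rel2 t u ht)
  · intro t u h
    exact hxy t u (congrArg Subtype.val h)
  · have h1 : (Set.range fun t => (⟨x t, hx t⟩ : ↥(Subgroup.closure (Set.range x ∪ Set.range y))))
        ∪ (Set.range fun t => (⟨y t, hy t⟩ : ↥(Subgroup.closure (Set.range x ∪ Set.range y)))) =
        ((↑) ⁻¹' (Set.range x ∪ Set.range y) :
          Set ↥(Subgroup.closure (Set.range x ∪ Set.range y))) := by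
      ext ⟨g, hg⟩
      simp only [Set.mem_union, Set.mem_range, Set.mem_preimage, Subtype.mk.injEq]
    rw [h1]
    exact Subgroup.closure_closure_coe_preimage
  · exact Subtype.ext hw

end iso

end Cfsg.Agent.Lib.Helper17
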