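import Cfsg.Agent.Lib.Helper17.ReeC1

set_option autoImplicit false

/-!
# The small Ree groups: the centraliser of the involution of `H ∩ ²G₂`

Every element of `²G₂` commuting with `h_a(-1) h_b(-1)` lies in the rank one subgroup generated
by the `X(u)`, `Y(u)` or in its coset by the involution.
-/

namespace Cfsg.Agent.Lib.Helper17

open Cfsg Cfsg.Lie

open Cfsg.Agent.Lib.Helper18 (xU coe_xU g2mem g2x coe_g2x g2n g2h coe_g2n coe_g2h
  g2h_eq g2n_eq g2n1 ReeTw ree_bot g2_cell_inj g2_diag_comm)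

section chi

variable {K : Type*} [Field K]

theorem g2chi_m1_7 : g2chi (-1 : K) (-1) 7 = -1 := by
  have c0 : chevG2.cartan 0 7 = 2 := by decide +kernel
  have c1 : chevG2.cartan 1 7 = -1 := by decide +kernel
  unfold g2chi
  rw [c0, c1, neg_one_zpow_eq, neg_one_zpow_eq]
  norm_num

theorem g2chi_m1_6 : g2chi (-1 : K) (-1) 6 = -1 := by
  have c0 : chevG2.cartan 0 6 = -3 := by decide +kernel
  have c1 : chevG2.cartan 1 6 = 2 := by decide +kernel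
  unfold g2chi
  rw [c0, c1, neg_one_zpow_eq, neg_one_zpow_eq]
  norm_num

theorem g2chi_m1_8 : g2chi (-1 : K) (-1) 8 = 1 := by
  have c0 : chevG2.cartan 0 8 = -1 := by decide +kernel
  have c1 : chevG2.cartan 1 8 = 1 := by decide +kernel
  unfold g2chi
  rw [c0, c1, neg_one_zpow_eq, neg_one_zpow_eq]
  norm_num

theorem g2chi_m1_9 : g2chi (-1 : K) (-1) 9 = -1 := by
  have c0 : chevG2.cartan 0 9 = 1 := by decide +kernel
  have c1 : chevG2.cartan 1 9 = 0 := by decide +kernel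
  unfold g2chi
  rw [c0, c1, neg_one_zpow_eq, neg_one_zpow_eq]
  norm_num

theorem g2chi_m1_10 : g2chi (-1 : K) (-1) 10 = 1 := by
  have c0 : chevG2.cartan 0 10 = 3 := by decide +kernel
  have c1 : chevG2.cartan 1 10 = -1 := by decide +kernel
  unfold g2chi
  rw [c0, c1, neg_one_zpow_eq, neg_one_zpow_eq]
  norm_num

theorem g2chi_m1_11 : g2chi (-1 : K) (-1) 11 = -1 := by
  have c0 : chevG2.cartan 0 11 = 0 := by decide +kernel
  have c1 : chevG2.cartan 1 11 = 1 := by decide +kernel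
  unfold g2chi
  rw [c0, c1, neg_one_zpow_eq, neg_one_zpow_eq]
  norm_num

theorem g2chi_m1_3 : g2chi (-1 : K) (-1) 3 = 1 := by
  have c0 : chevG2.cartan 0 3 = 1 := by decide +kernel
  have c1 : chevG2.cartan 1 3 = -1 := by decide +kernel
  unfold g2chi
  rw [c0, c1, neg_one_zpow_eq, neg_one_zpow_eq]
  norm_num

theorem g2chi_m1_1 : g2chi (-1 : K) (-1) 1 = 1 := by
  have c0 : chevG2.cartan 0 1 = -3 := by decide +kernel
  have c1 : chevG2.cartan 1 1 = 1 := by decide +kernel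
  unfold g2chi
  rw [c0, c1, neg_one_zpow_eq, neg_one_zpow_eq]
  norm_num

/-- the involution acts on `U ∩ ²G₂` by `(t, u, v) ↦ (-t, u, -v)` -/
theorem reeInv_conj_U (e : ℕ) (he : Odd e) (t u v : K) :
    g2t (-1 : K) (-1) * reeUg e t u v = reeUg e (-t) u (-v) * g2t (-1) (-1) := by
  have hm1 : (-1 : K) ≠ 0 := neg_ne_zero.mpr one_ne_zero
  have he1 : Even (e + 1) := he.add_one
  have he2 : Odd (2 * e + 1) := odd_two_mul_add_one e
  unfold reeUg
  simp only [mul_assoc]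
  rw [g2t_conj' _ _ hm1 hm1 7 (by decide), g2t_conj' _ _ hm1 hm1 6 (by decide),
    g2t_conj' _ _ hm1 hm1 8 (by decide), g2t_conj' _ _ hm1 hm1 9 (by decide),
    g2t_conj' _ _ hm1 hm1 10 (by decide), g2t_conj _ _ hm1 hm1 11 (by decide),
    g2chi_m1_7, g2chi_m1_6, g2chi_m1_8, g2chi_m1_9, g2chi_m1_10, g2chi_m1_11, he.neg_pow,
    he1.neg_pow, he2.neg_pow, he.neg_pow]
  simp only [neg_one_mul, one_mul, neg_add]

theorem reeInv_comm_X (e : ℕ) (u : K) :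
    g2t (-1 : K) (-1) * reeX e u = reeX e u * g2t (-1) (-1) := by
  have hm1 : (-1 : K) ≠ 0 := neg_ne_zero.mpr one_ne_zero
  unfold reeX
  rw [mul_assoc, g2t_conj' _ _ hm1 hm1 8 (by decide), g2t_conj _ _ hm1 hm1 10 (by decide),
    g2chi_m1_8, g2chi_m1_10, one_mul, one_mul]

theorem reeInv_comm_Y (e : ℕ) (u : K) :
    g2t (-1 : K) (-1) * reeY e u = reeY e u * g2t (-1) (-1) := by
  have hm1 : (-1 : K) ≠ 0 := neg_ne_zero.mpr one_ne_zero
  unfold reeY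
  rw [mul_assoc, g2t_conj' _ _ hm1 hm1 3 (by decide), g2t_conj _ _ hm1 hm1 1 (by decide),
    g2chi_m1_3, g2chi_m1_1, one_mul, one_mul]

theorem reeInv_sq : g2t (-1 : K) (-1) * g2t (-1) (-1) = 1 := by
  have hm1 : (-1 : K) ≠ 0 := neg_ne_zero.mpr one_ne_zero
  rw [g2t_mul _ _ _ _ hm1 hm1 hm1 hm1, neg_one_mul, neg_neg, g2t_one]

/-- the elements `h_{a+b}(w^θ) h_{3a+b}(w)` -/
def reeK (e : ℕ) (w : K) : ↥(chevG2.group K) := g2h 8 (w ^ e) * g2h 10 w

theorem reeK_eq (e : ℕ) (he : Odd e) (w : K) :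
    reeK e w = (reeX e w * reeY e (-w⁻¹) * reeX e w) *
      (reeX e (-1) * reeY e (-(-1 : K)⁻¹) * reeX e (-1)) := by
  rw [reeN_eq e he, reeN_eq e he]
  unfold reeK
  rw [g2h_eq, g2h_eq, he.neg_one_pow]
  calc g2n 8 (w ^ e) * g2n 8 (-1) * (g2n 10 w * g2n 10 (-1))
      = g2n 8 (w ^ e) * ((g2n 8 (-1) * g2n 10 w) * g2n 10 (-1)) := by simp only [mul_assoc]
    _ = g2n 8 (w ^ e) * ((g2n 10 w * g2n 8 (-1)) * g2n 10 (-1)) := by
        rw [(g2n_comm_8_10 (-1) w).eq]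
    _ = g2n 8 (w ^ e) * g2n 10 w * (g2n 8 (-1) * g2n 10 (-1)) := by simp only [mul_assoc]

end chi

section torus

variable {K : Type*} [Field K] [Fintype K] [CharP K 3] {m : ℕ}

omit [CharP K 3] in
theorem reeK_sq (hK : Fintype.card K = 3 ^ (2 * m + 1)) (y : K) (hy : y ≠ 0) :
    reeK (3 ^ m) (y ^ (3 * 3 ^ m) * y⁻¹) = g2t ((y * y) ^ 3 ^ m) (y * y) := by
  have hw0 : y ^ (3 * 3 ^ m) * y⁻¹ ≠ 0 := mul_ne_zero (pow_ne_zero _ hy) (inv_ne_zero hy)
  have a1 : (y ^ (3 * 3 ^ m)) ^ 3 ^ m = y := ree_pw1' hK y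
  have a2 : (y ^ (3 * 3 ^ m)) ^ (3 * 3 ^ m) = y ^ 3 := by
    rw [mul_comm 3 (3 ^ m), pow_mul _ (3 ^ m) 3, ← mul_comm 3 (3 ^ m), a1]
  have a3 : y ^ (3 * 3 ^ m) = (y ^ 3 ^ m) ^ 3 := by
    rw [mul_comm, pow_mul]
  have hE : y ^ 3 ^ m ≠ 0 := pow_ne_zero _ hy
  unfold reeK
  rw [g2h_8 _ (pow_ne_zero _ hw0), g2h_10 _ hw0,
    g2t_mul _ _ _ _ (pow_ne_zero _ hw0) (pow_ne_zero _ (pow_ne_zero _ hw0)) hw0 hw0]
  have b1 : (y ^ (3 * 3 ^ m) * y⁻¹) ^ 3 ^ m * (y ^ (3 * 3 ^ m) * y⁻¹) = (y * y) ^ 3 ^ m := by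
    rw [mul_pow, a1, inv_pow, a3, mul_pow]
    field_simp
  have b2 : ((y ^ (3 * 3 ^ m) * y⁻¹) ^ 3 ^ m) ^ 3 * (y ^ (3 * 3 ^ m) * y⁻¹) = y * y := by
    rw [← pow_mul, mul_comm (3 ^ m) 3, mul_pow, a2, inv_pow, a3]
    field_simp
  rw [b1, b2]

/-- the elements of `H ∩ ²G₂` are the `h_{a+b}(w^θ) h_{3a+b}(w)` and their products with the
involution -/
theorem ree_torus_decomp (hK : Fintype.card K = 3 ^ (2 * m + 1)) (z : K) (hz : z ≠ 0) :
    ∃ w : K, g2t (z ^ 3 ^ m) z = reeK (3 ^ m) w ∨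
      g2t (z ^ 3 ^ m) z = g2t (-1) (-1) * reeK (3 ^ m) w := by
  rcases ree_sq_or hK z hz with ⟨y, hy⟩ | ⟨y, hy⟩
  · have hy0 : y ≠ 0 := by
      rintro rfl
      rw [mul_zero] at hy
      exact hz hy
    exact ⟨y ^ (3 * 3 ^ m) * y⁻¹, Or.inl (by rw [hy, reeK_sq hK y hy0])⟩
  · have hy0 : y ≠ 0 := by
      rintro rfl
      rw [mul_zero] at hy
      exact hz (neg_eq_zero.mp hy)
    have hm1 : (-1 : K) ≠ 0 := neg_ne_zero.mpr one_ne_zero
    refine ⟨y ^ (3 * 3 ^ m) * y⁻¹, Or.inr ?_⟩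
    rw [reeK_sq hK y hy0,
      g2t_mul _ _ _ _ hm1 hm1 (pow_ne_zero _ (mul_ne_zero hy0 hy0)) (mul_ne_zero hy0 hy0),
      ← hy, ree_odd_e.neg_pow, neg_one_mul, neg_neg, neg_one_mul, neg_neg]

theorem two_ne_zero_char3 : (2 : K) ≠ 0 := by
  intro h
  have h1 : ((2 : ℕ) : K) = 0 := by exact_mod_cast h
  have h2 := (CharP.cast_eq_zero_iff K 3 2).mp h1
  omega

theorem eq_zero_of_neg_eq (t : K) (h : -t = t) : t = 0 := by
  have h1 : (2 : K) * t = 0 := by linear_combination (-1 : K) * h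
  rcases mul_eq_zero.mp h1 with h2 | h2
  · exact absurd h2 two_ne_zero_char3
  · exact h2

/-- an element of `²G₂` commuting with the involution of `H ∩ ²G₂` lies in a subgroup
containing the `X(u)` and `Y(u)`, or its product with the involution does -/
theorem ree_cent_cases (T : ReeTw K m) (hK : Fintype.card K = 3 ^ (2 * m + 1))
    (L : Subgroup (GL chevG2.Idx K))
    (hX : ∀ u : K, ((reeX (3 ^ m) u : ↥(chevG2.group K)) : GL chevG2.Idx K) ∈ L)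
    (hY : ∀ u : K, ((reeY (3 ^ m) u : ↥(chevG2.group K)) : GL chevG2.Idx K) ∈ L)
    (g : GL chevG2.Idx K) (hg : g ∈ twistedG2 K (3 ^ m))
    (hc : ((g2t (-1 : K) (-1) : ↥(chevG2.group K)) : GL chevG2.Idx K) * g =
      g * ((g2t (-1 : K) (-1) : ↥(chevG2.group K)) : GL chevG2.Idx K)) :
    g ∈ L ∨ ((g2t (-1 : K) (-1) : ↥(chevG2.group K)) : GL chevG2.Idx K) * g ∈ L := by
  have ho : Odd (3 ^ m) := ree_odd_e
  have he0 : (3 ^ m) ≠ 0 := pow_ne_zero _ (by norm_num)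
  have hm1 : (-1 : K) ≠ 0 := neg_ne_zero.mpr one_ne_zero
  have hUB : chevG2.posUnipotent K ≤ chevG2.borelSubgroup K := le_sup_left
  have hHB : chevG2.diagonalSubgroup K ≤ chevG2.borelSubgroup K := le_sup_right
  obtain ⟨a0, ha0⟩ : ∃ a0 : GL chevG2.Idx K,
      a0 = ((g2t (-1 : K) (-1) : ↥(chevG2.group K)) : GL chevG2.Idx K) := ⟨_, rfl⟩
  rw [← ha0] at hc ⊢
  have ha0H : a0 ∈ chevG2.diagonalSubgroup K := by
    rw [ha0]
    exact g2t_mem_diag _ _ hm1 hm1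
  have ha0sq : a0 * a0 = 1 := by
    rw [ha0]
    exact congrArg Subtype.val (reeInv_sq (K := K))
  have hn1 : ((g2n1 : ↥(chevG2.group K)) : GL chevG2.Idx K) ∈ L := by
    rw [← reeN_one (3 ^ m) ho]
    exact mul_mem (mul_mem (hX 1) (hY (-1))) (hX 1)
  have hKL : ∀ w : K, ((reeK (3 ^ m) w : ↥(chevG2.group K)) : GL chevG2.Idx K) ∈ L := by
    intro w
    rw [reeK_eq (3 ^ m) ho]
    exact mul_mem (mul_mem (mul_mem (hX _) (hY _)) (hX _)) (mul_mem (mul_mem (hX _) (hY _)) (hX _))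
  have hcn : a0 * ((g2n1 : ↥(chevG2.group K)) : GL chevG2.Idx K) =
      ((g2n1 : ↥(chevG2.group K)) : GL chevG2.Idx K) * a0 := by
    rw [ha0, ← reeN_one (3 ^ m) ho]
    have h1 : g2t (-1 : K) (-1) * (reeX (3 ^ m) 1 * reeY (3 ^ m) (-1) * reeX (3 ^ m) 1) =
        (reeX (3 ^ m) 1 * reeY (3 ^ m) (-1) * reeX (3 ^ m) 1) * g2t (-1 : K) (-1) := by
      calc g2t (-1 : K) (-1) * (reeX (3 ^ m) 1 * reeY (3 ^ m) (-1) * reeX (3 ^ m) 1)
          = (g2t (-1 : K) (-1) * reeX (3 ^ m) 1) * reeY (3 ^ m) (-1) * reeX (3 ^ m) 1 := by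
            simp only [mul_assoc]
        _ = reeX (3 ^ m) 1 * (g2t (-1 : K) (-1) * reeY (3 ^ m) (-1)) * reeX (3 ^ m) 1 := by
            rw [reeInv_comm_X]; simp only [mul_assoc]
        _ = reeX (3 ^ m) 1 * reeY (3 ^ m) (-1) * (g2t (-1 : K) (-1) * reeX (3 ^ m) 1) := by
            rw [reeInv_comm_Y]; simp only [mul_assoc]
        _ = _ := by rw [reeInv_comm_X]; simp only [mul_assoc]
    exact congrArg Subtype.val h1
  have hU : ∀ u' ∈ chevG2.posUnipotent K ⊓ twistedG2 K (3 ^ m), ∃ t u v : K,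
      u' = ((reeUg (3 ^ m) t u v : ↥(chevG2.group K)) : GL chevG2.Idx K) ∧
      a0 * u' = ((reeUg (3 ^ m) (-t) u (-v) : ↥(chevG2.group K)) : GL chevG2.Idx K) * a0 := by
    intro u' hu'
    obtain ⟨t, u, v, rfl⟩ := (ree_unip_iff T hK u').mp hu'
    refine ⟨t, u, v, rfl, ?_⟩
    rw [ha0]
    exact congrArg Subtype.val (reeInv_conj_U (3 ^ m) ho t u v)
  have hH : ∀ h ∈ chevG2.diagonalSubgroup K ⊓ twistedG2 K (3 ^ m),
      (h ∈ L ∨ a0 * h ∈ L) ∧ a0 * h = h * a0 := by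
    intro h hh
    refine ⟨?_, g2_diag_comm a0 h ha0H (Subgroup.mem_inf.mp hh).1⟩
    rw [← reeTorus_range T hK] at hh
    obtain ⟨z, rfl⟩ := hh
    rw [reeTorus_apply]
    obtain ⟨w, h1 | h1⟩ := ree_torus_decomp hK (z : K) z.ne_zero
    · left
      rw [h1]
      exact hKL w
    · right
      rw [h1, ha0, Subgroup.coe_mul, ← mul_assoc, ← ha0, ha0sq, one_mul]
      exact hKL w
  have hpar : ∀ t u v : K,
      ((reeUg (3 ^ m) (-t) u (-v) : ↥(chevG2.group K)) : GL chevG2.Idx K) =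
        ((reeUg (3 ^ m) t u v : ↥(chevG2.group K)) : GL chevG2.Idx K) → t = 0 ∧ v = 0 := by
    intro t u v h
    obtain ⟨h1, -, h3⟩ := reeUg_inj _ _ _ _ _ _ _ (Subtype.ext h)
    exact ⟨eq_zero_of_neg_eq t h1, eq_zero_of_neg_eq v h3⟩
  have hXu : ∀ u : K, ((reeUg (3 ^ m) 0 u 0 : ↥(chevG2.group K)) : GL chevG2.Idx K) ∈ L := by
    intro u
    rw [← reeX_eq (3 ^ m) he0 u]
    exact hX u
  rcases (ree_bot T hK).cells hK g hg with ⟨u', hu', h, hh, rfl⟩ | ⟨u', hu', h, hh, u2, hu2, rfl⟩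
  · obtain ⟨t, u, v, rfl, hconj⟩ := hU u' hu'
    obtain ⟨hhL, hhc⟩ := hH h hh
    have e0 : a0 * (((reeUg (3 ^ m) t u v : ↥(chevG2.group K)) : GL chevG2.Idx K) * h) =
        ((reeUg (3 ^ m) (-t) u (-v) : ↥(chevG2.group K)) : GL chevG2.Idx K) * h * a0 := by
      rw [← mul_assoc, hconj, mul_assoc, hhc, mul_assoc]
    rw [e0] at hc
    obtain ⟨ht, hv⟩ := hpar t u v (mul_right_cancel (mul_right_cancel hc))
    subst ht hv
    rcases hhL with h1 | h1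
    · left
      exact mul_mem (hXu u) h1
    · right
      rw [← mul_assoc, hconj, neg_zero, mul_assoc]
      exact mul_mem (hXu u) h1
  · obtain ⟨t, u, v, rfl, hconj⟩ := hU u' hu'
    obtain ⟨t2, w2, v2, rfl, hconj2⟩ := hU u2 hu2
    obtain ⟨hhL, hhc⟩ := hH h hh
    have e0 : a0 * (((reeUg (3 ^ m) t u v : ↥(chevG2.group K)) : GL chevG2.Idx K) * h *
          ((g2n1 : ↥(chevG2.group K)) : GL chevG2.Idx K) *
          ((reeUg (3 ^ m) t2 w2 v2 : ↥(chevG2.group K)) : GL chevG2.Idx K)) =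
        ((reeUg (3 ^ m) (-t) u (-v) : ↥(chevG2.group K)) : GL chevG2.Idx K) * h *
          ((g2n1 : ↥(chevG2.group K)) : GL chevG2.Idx K) *
          ((reeUg (3 ^ m) (-t2) w2 (-v2) : ↥(chevG2.group K)) : GL chevG2.Idx K) * a0 := by
      calc a0 * (((reeUg (3 ^ m) t u v : ↥(chevG2.group K)) : GL chevG2.Idx K) * h *
            ((g2n1 : ↥(chevG2.group K)) : GL chevG2.Idx K) *
            ((reeUg (3 ^ m) t2 w2 v2 : ↥(chevG2.group K)) : GL chevG2.Idx K))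
          = (a0 * ((reeUg (3 ^ m) t u v : ↥(chevG2.group K)) : GL chevG2.Idx K)) * h *
            ((g2n1 : ↥(chevG2.group K)) : GL chevG2.Idx K) *
            ((reeUg (3 ^ m) t2 w2 v2 : ↥(chevG2.group K)) : GL chevG2.Idx K) := by
            simp only [mul_assoc]
        _ = ((reeUg (3 ^ m) (-t) u (-v) : ↥(chevG2.group K)) : GL chevG2.Idx K) * (a0 * h) *
            ((g2n1 : ↥(chevG2.group K)) : GL chevG2.Idx K) *
            ((reeUg (3 ^ m) t2 w2 v2 : ↥(chevG2.group K)) : GL chevG2.Idx K) := by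
            rw [hconj]; simp only [mul_assoc]
        _ = ((reeUg (3 ^ m) (-t) u (-v) : ↥(chevG2.group K)) : GL chevG2.Idx K) * h *
            (a0 * ((g2n1 : ↥(chevG2.group K)) : GL chevG2.Idx K)) *
            ((reeUg (3 ^ m) t2 w2 v2 : ↥(chevG2.group K)) : GL chevG2.Idx K) := by
            rw [hhc]; simp only [mul_assoc]
        _ = ((reeUg (3 ^ m) (-t) u (-v) : ↥(chevG2.group K)) : GL chevG2.Idx K) * h *
            ((g2n1 : ↥(chevG2.group K)) : GL chevG2.Idx K) *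
            (a0 * ((reeUg (3 ^ m) t2 w2 v2 : ↥(chevG2.group K)) : GL chevG2.Idx K)) := by
            rw [hcn]; simp only [mul_assoc]
        _ = _ := by rw [hconj2]; simp only [mul_assoc]
    rw [e0] at hc
    obtain ⟨e1, e2⟩ := g2_cell_inj _ _ _ _
      (mul_mem (hUB (reeUg_mem_unip (3 ^ m) (-t) u (-v))) (hHB (Subgroup.mem_inf.mp hh).1))
      (mul_mem (hUB (reeUg_mem_unip (3 ^ m) t u v)) (hHB (Subgroup.mem_inf.mp hh).1))
      (reeUg_mem_unip (3 ^ m) (-t2) w2 (-v2)) (reeUg_mem_unip (3 ^ m) t2 w2 v2)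
      (mul_right_cancel hc)
    obtain ⟨ht, hv⟩ := hpar t u v (mul_right_cancel e1)
    obtain ⟨ht2, hv2⟩ := hpar t2 w2 v2 e2
    subst ht hv ht2 hv2
    rcases hhL with h1 | h1
    · left
      exact mul_mem (mul_mem (mul_mem (hXu u) h1) hn1) (hXu w2)
    · right
      have e3 : a0 * (((reeUg (3 ^ m) 0 u 0 : ↥(chevG2.group K)) : GL chevG2.Idx K) * h *
          ((g2n1 : ↥(chevG2.group K)) : GL chevG2.Idx K) *
          ((reeUg (3 ^ m) 0 w2 0 : ↥(chevG2.group K)) : GL chevG2.Idx K)) =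
          ((reeUg (3 ^ m) 0 u 0 : ↥(chevG2.group K)) : GL chevG2.Idx K) * (a0 * h) *
          ((g2n1 : ↥(chevG2.group K)) : GL chevG2.Idx K) *
          ((reeUg (3 ^ m) 0 w2 0 : ↥(chevG2.group K)) : GL chevG2.Idx K) := by
        have h5 := hconj
        rw [neg_zero] at h5
        calc a0 * (((reeUg (3 ^ m) 0 u 0 : ↥(chevG2.group K)) : GL chevG2.Idx K) * h *
            ((g2n1 : ↥(chevG2.group K)) : GL chevG2.Idx K) *
            ((reeUg (3 ^ m) 0 w2 0 : ↥(chevG2.group K)) : GL chevG2.Idx K))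
            = (a0 * ((reeUg (3 ^ m) 0 u 0 : ↥(chevG2.group K)) : GL chevG2.Idx K)) * h *
            ((g2n1 : ↥(chevG2.group K)) : GL chevG2.Idx K) *
            ((reeUg (3 ^ m) 0 w2 0 : ↥(chevG2.group K)) : GL chevG2.Idx K) := by
              simp only [mul_assoc]
          _ = _ := by rw [h5]; simp only [mul_assoc]
      rw [e3]
      exact mul_mem (mul_mem (mul_mem (hXu u) h1) hn1) (hXu w2)

end torus

end Cfsg.Agent.Lib.Helper17
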