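import Cfsg.Agent.Lib.Helper17.ReeC2
import Cfsg.Agent.Lib.Helper41.PSL2Order

set_option autoImplicit false

/-!
# Facts on `PSL₂(F)` and on direct products with a group of order two

Used for the centraliser of an involution of the small Ree groups.
-/

namespace Cfsg.Agent.Lib.Helper17

open Cfsg.Agent.Lib.Helper83 (mat2_ext scalar2)

section psl

variable {F : Type*} [Field F]

theorem mat2_inj {R : Type*} {a b c d a' b' c' d' : R}
    (h : (!![a, b; c, d] : Matrix (Fin 2) (Fin 2) R) = !![a', b'; c', d']) :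
    a = a' ∧ b = b' ∧ c = c' ∧ d = d' := by
  have h00 := congrFun (congrFun h 0) 0
  have h01 := congrFun (congrFun h 0) 1
  have h10 := congrFun (congrFun h 1) 0
  have h11 := congrFun (congrFun h 1) 1
  simp at h00 h01 h10 h11
  exact ⟨h00, h01, h10, h11⟩

/-- the centre of `PSL₂(F)` is trivial in characteristic not two -/
theorem psl2_center_bot (h2 : (2 : F) ≠ 0) :
    Subgroup.center (Matrix.ProjectiveSpecialLinearGroup (Fin 2) F) = ⊥ := by
  rw [eq_bot_iff]
  intro q hq
  rw [Subgroup.mem_bot]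
  obtain ⟨z, rfl⟩ := QuotientGroup.mk_surjective q
  rw [QuotientGroup.eq_one_iff]
  obtain ⟨α, β, γ, δ, hM⟩ : ∃ α β γ δ, z.1 = !![α, β; γ, δ] :=
    ⟨_, _, _, _, Matrix.eta_fin_two z.1⟩
  have hdet : α * δ - β * γ = 1 := by
    have := z.2
    rw [hM, Matrix.det_fin_two_of] at this
    exact this
  have key : ∀ g : Matrix.SpecialLinearGroup (Fin 2) F, ∃ r : F, (r = 1 ∨ r = -1) ∧
      z.1 * g.1 = g.1 * z.1 * !![r, 0; 0, r] := by
    intro g
    have h1 := Subgroup.mem_center_iff.mp hq (QuotientGroup.mk g)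
    rw [← QuotientGroup.mk_mul, ← QuotientGroup.mk_mul, QuotientGroup.eq] at h1
    rw [Matrix.SpecialLinearGroup.mem_center_iff] at h1
    obtain ⟨r, hr, hrz⟩ := h1
    rw [scalar2] at hrz
    have hr2 : r ^ 2 = 1 := by simpa using hr
    have hr' : r = 1 ∨ r = -1 := by
      have h3 : (r - 1) * (r + 1) = 0 := by linear_combination hr2
      rcases mul_eq_zero.mp h3 with h4 | h4
      · left; linear_combination h4
      · right; linear_combination h4
    refine ⟨r, hr', ?_⟩
    have h5 : z * g = g * z * ((g * z)⁻¹ * (z * g)) := by group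
    have h6 := congrArg Subtype.val h5
    rw [Matrix.SpecialLinearGroup.coe_mul, Matrix.SpecialLinearGroup.coe_mul (g * z), ← hrz,
      Matrix.SpecialLinearGroup.coe_mul] at h6
    exact h6
  obtain ⟨r, hr, h1⟩ := key (Cfsg.Agent.Lib.Helper59.slX F 1)
  obtain ⟨r', hr', h1'⟩ := key (Cfsg.Agent.Lib.Helper59.slY F 1)
  change z.1 * !![1, 1; 0, 1] = !![1, 1; 0, 1] * z.1 * !![r, 0; 0, r] at h1
  change z.1 * !![1, 0; 1, 1] = !![1, 0; 1, 1] * z.1 * !![r', 0; 0, r'] at h1'
  rw [hM, Matrix.mul_fin_two, Matrix.mul_fin_two, Matrix.mul_fin_two] at h1 h1'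
  obtain ⟨a00, a01, a10, a11⟩ := mat2_inj h1
  obtain ⟨b00, b01, b10, b11⟩ := mat2_inj h1'
  have hγ : γ = 0 ∧ α = δ := by
    rcases hr with rfl | rfl
    · have hγ : γ = 0 := by linear_combination (-1 : F) * a00
      exact ⟨hγ, by rw [hγ] at a01; linear_combination a01⟩
    · exfalso
      have hγ : (2 : F) * γ = 0 := by linear_combination a10
      have hγ0 : γ = 0 := by
        rcases mul_eq_zero.mp hγ with h | h
        · exact absurd h h2
        · exact h
      have hα : (2 : F) * α = 0 := by rw [hγ0] at a00; linear_combination a00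
      have hα0 : α = 0 := by
        rcases mul_eq_zero.mp hα with h | h
        · exact absurd h h2
        · exact h
      rw [hγ0, hα0] at hdet
      simp at hdet
  have hβ : β = 0 := by
    rcases hr' with rfl | rfl
    · linear_combination (-1 : F) * b11
    · exfalso
      have hβ : (2 : F) * β = 0 := by linear_combination b01
      have hβ0 : β = 0 := by
        rcases mul_eq_zero.mp hβ with h | h
        · exact absurd h h2
        · exact h
      have hδ : (2 : F) * δ = 0 := by rw [hβ0] at b11; linear_combination b11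
      have hδ0 : δ = 0 := by
        rcases mul_eq_zero.mp hδ with h | h
        · exact absurd h h2
        · exact h
      rw [hβ0, hδ0] at hdet
      simp at hdet
  rw [Matrix.SpecialLinearGroup.mem_center_iff]
  refine ⟨α, ?_, ?_⟩
  · rw [hγ.1, hβ, ← hγ.2] at hdet
    simp only [Fintype.card_fin]
    linear_combination hdet
  · rw [scalar2, hM, hγ.1, hβ, ← hγ.2]

/-- in `PSL₂(F)`, `2` not a square in `F`, an element of order dividing `4` has order dividing
`2` -/
theorem psl2_sq_of_pow4 (h2 : ¬ IsSquare (2 : F))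
    (q : Matrix.ProjectiveSpecialLinearGroup (Fin 2) F) (hq : q ^ 4 = 1) : q ^ 2 = 1 := by
  obtain ⟨g, rfl⟩ := QuotientGroup.mk_surjective q
  rw [← QuotientGroup.mk_pow, QuotientGroup.eq_one_iff] at hq ⊢
  rw [Matrix.SpecialLinearGroup.mem_center_iff] at hq ⊢
  obtain ⟨c, -, hc⟩ := hq
  rw [scalar2] at hc
  obtain ⟨α, β, γ, δ, hM⟩ : ∃ α β γ δ, g.1 = !![α, β; γ, δ] :=
    ⟨_, _, _, _, Matrix.eta_fin_two g.1⟩
  have hdet : α * δ - β * γ = 1 := by
    have := g.2
    rw [hM, Matrix.det_fin_two_of] at this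
    exact this
  have h4 : (g ^ 4).1 = (g.1 * g.1) * (g.1 * g.1) := by
    rw [show (4 : ℕ) = 2 + 2 from rfl, pow_add, pow_two]
    rfl
  have h2' : (g ^ 2).1 = g.1 * g.1 := by
    rw [pow_two]
    rfl
  have hc' : (g.1 * g.1) * (g.1 * g.1) = !![c, 0; 0, c] := by
    rw [← h4]
    exact hc.symm
  rw [hM, Matrix.mul_fin_two, Matrix.mul_fin_two] at hc'
  obtain ⟨e00, e01, e10, e11⟩ := mat2_inj hc'
  have k01 : β * ((α + δ) * ((α + δ) ^ 2 - 2)) = 0 := by
    linear_combination e01 + 2 * β * (α + δ) * hdet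
  have k10 : γ * ((α + δ) * ((α + δ) ^ 2 - 2)) = 0 := by
    linear_combination e10 + 2 * γ * (α + δ) * hdet
  have k00 : (α - δ) * ((α + δ) * ((α + δ) ^ 2 - 2)) = 0 := by
    linear_combination e00 - e11 + 2 * (α - δ) * (α + δ) * hdet
  rw [h2', hM, Matrix.mul_fin_two]
  by_cases hP : (α + δ) * ((α + δ) ^ 2 - 2) = 0
  · rcases mul_eq_zero.mp hP with hτ | hτ
    · refine ⟨-1, by simp, ?_⟩
      rw [scalar2]
      refine mat2_ext ?_ ?_ ?_ ?_
      · linear_combination (-α) * hτ + hdet
      · linear_combination (-β) * hτ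
      · linear_combination (-γ) * hτ
      · linear_combination (-δ) * hτ + hdet
    · exfalso
      exact h2 ⟨α + δ, by linear_combination (-1 : F) * hτ⟩
  · have hβ : β = 0 := by
      rcases mul_eq_zero.mp k01 with h | h
      · exact h
      · exact absurd h hP
    have hγ : γ = 0 := by
      rcases mul_eq_zero.mp k10 with h | h
      · exact h
      · exact absurd h hP
    have hα : α = δ := by
      rcases mul_eq_zero.mp k00 with h | h
      · linear_combination h
      · exact absurd h hP
    refine ⟨1, by simp, ?_⟩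
    rw [scalar2]
    rw [hβ, hγ, ← hα] at hdet
    refine mat2_ext ?_ ?_ ?_ ?_
    · rw [hβ]; linear_combination (-1 : F) * hdet
    · rw [hβ]; ring
    · rw [hγ]; ring
    · rw [hβ, ← hα]; linear_combination (-1 : F) * hdet

/-- in `PSL₂(F)`, `2` not a square in `F`, an element of `2`-power order has order dividing
`2` -/
theorem psl2_two_pow (h2 : ¬ IsSquare (2 : F))
    (q : Matrix.ProjectiveSpecialLinearGroup (Fin 2) F) (k : ℕ) (hq : q ^ 2 ^ k = 1) :
    q ^ 2 = 1 := by
  induction k with
  | zero =>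
    rw [pow_zero, pow_one] at hq
    rw [hq, one_pow]
  | succ k ih =>
    rcases Nat.eq_zero_or_pos k with rfl | hk
    · simpa using hq
    · obtain ⟨j, rfl⟩ : ∃ j, k = j + 1 := ⟨k - 1, by omega⟩
      apply ih
      have h4 : (q ^ 2 ^ j) ^ 4 = 1 := by
        rw [← pow_mul, ← hq]
        congr 1
        ring
      have h5 := psl2_sq_of_pow4 h2 _ h4
      rw [← pow_mul] at h5
      rw [pow_succ]
      exact h5

end psl

end Cfsg.Agent.Lib.Helper17
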