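import Cfsg.Agent.Lib.Helper17.ReeC3

set_option autoImplicit false

/-!
# The small Ree groups: the centraliser of an involution of `H ∩ ²G₂` is `Z₂ × PSL₂(q)`
-/

namespace Cfsg.Agent.Lib.Helper17

open Cfsg Cfsg.Lie

open Cfsg.Agent.Lib.Helper18 (g2mem g2x coe_g2x ReeTw)

open scoped Pointwise

section abstract

variable {G : Type*} [Group G]

/-- the homomorphism from the group of order two given by an element of order dividing two -/
def z2Hom (a : G) (ha : a * a = 1) : Multiplicative (ZMod 2) →* G where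
  toFun ε := a ^ (Multiplicative.toAdd ε).val
  map_one' := by simp
  map_mul' := by
    intro x y
    have h2 : a ^ 2 = 1 := by rw [pow_two, ha]
    rw [toAdd_mul, ZMod.val_add, ← pow_eq_pow_mod _ h2, pow_add]

theorem z2Hom_apply (a : G) (ha : a * a = 1) (ε : Multiplicative (ZMod 2)) :
    z2Hom a ha ε = a ^ (Multiplicative.toAdd ε).val := rfl

theorem center_eq_bot_of_mulEquiv {H : Type*} [Group H] (e : G ≃* H)
    (h : Subgroup.center H = ⊥) : Subgroup.center G = ⊥ := by
  rw [eq_bot_iff]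
  intro x hx
  rw [Subgroup.mem_bot]
  have h1 : e x ∈ Subgroup.center H := by
    rw [Subgroup.mem_center_iff]
    intro y
    have h2 := Subgroup.mem_center_iff.mp hx (e.symm y)
    have h3 := congrArg e h2
    rw [map_mul, map_mul, e.apply_symm_apply] at h3
    exact h3
  rw [h, Subgroup.mem_bot] at h1
  exact e.map_eq_one_iff.mp h1

/-- the centraliser of an involution `a` is `Z₂ × L` for a subgroup `L` with trivial centre
commuting with `a` and covering the centraliser together with its coset by `a` -/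
theorem cent_iso_prod (a : G) (L : Subgroup G) (ha2 : a * a = 1) (ha1 : a ≠ 1)
    (hcen : Subgroup.center ↥L = ⊥) (hLC : ∀ g ∈ L, a * g = g * a)
    (hsurj : ∀ g : G, a * g = g * a → g ∈ L ∨ a * g ∈ L) :
    Nonempty (↥(Subgroup.centralizer ({a} : Set G)) ≃* Multiplicative (ZMod 2) × ↥L) := by
  have hmemC : ∀ g : G, g ∈ Subgroup.centralizer ({a} : Set G) ↔ a * g = g * a := by
    intro g
    rw [Subgroup.mem_centralizer_iff]
    constructor
    · intro h
      exact h a rfl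
    · intro h x hx
      rw [Set.mem_singleton_iff.mp hx]
      exact h
  have haL : a ∉ L := by
    intro h
    apply ha1
    have h1 : (⟨a, h⟩ : ↥L) ∈ Subgroup.center ↥L := by
      rw [Subgroup.mem_center_iff]
      intro g
      exact Subtype.ext (hLC g.1 g.2).symm
    rw [hcen, Subgroup.mem_bot] at h1
    exact congrArg Subtype.val h1
  have hLle : L ≤ Subgroup.centralizer ({a} : Set G) := fun g hg => (hmemC g).mpr (hLC g hg)
  have haC : a ∈ Subgroup.centralizer ({a} : Set G) := (hmemC a).mpr rfl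
  have ha2' : (⟨a, haC⟩ : ↥(Subgroup.centralizer ({a} : Set G))) * ⟨a, haC⟩ = 1 :=
    Subtype.ext ha2
  have hcomm : ∀ (m : Multiplicative (ZMod 2)) (n : ↥L),
      Commute (z2Hom (⟨a, haC⟩ : ↥(Subgroup.centralizer ({a} : Set G))) ha2' m)
        (Subgroup.inclusion hLle n) := by
    intro m n
    rw [z2Hom_apply]
    apply Commute.pow_left
    exact Subtype.ext (hLC n.1 n.2)
  let f : Multiplicative (ZMod 2) × ↥L →* ↥(Subgroup.centralizer ({a} : Set G)) :=
    MonoidHom.noncommCoprod (z2Hom ⟨a, haC⟩ ha2') (Subgroup.inclusion hLle) hcomm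
  have hf : ∀ p : Multiplicative (ZMod 2) × ↥L,
      ((f p : ↥(Subgroup.centralizer ({a} : Set G))) : G) =
        a ^ (Multiplicative.toAdd p.1).val * (p.2 : G) := by
    intro p
    rfl
  have hinj : Function.Injective f := by
    rw [injective_iff_map_eq_one]
    rintro ⟨ε, ℓ⟩ h
    have h1 := congrArg Subtype.val h
    rw [hf] at h1
    have hv : (Multiplicative.toAdd ε).val < 2 := ZMod.val_lt _
    have hv' : (Multiplicative.toAdd ε).val = 0 := by
      by_contra hne
      have h1' : (Multiplicative.toAdd ε).val = 1 := by omega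
      rw [h1', pow_one] at h1
      apply haL
      have h2 : a = (ℓ : G)⁻¹ := eq_inv_of_mul_eq_one_left h1
      rw [h2]
      exact inv_mem ℓ.2
    rw [hv', pow_zero, one_mul] at h1
    have hε : ε = 1 := by
      have h3 : Multiplicative.toAdd ε = 0 := (ZMod.val_eq_zero _).mp hv'
      exact h3
    have hℓ : ℓ = 1 := Subtype.ext h1
    rw [hε, hℓ]
    rfl
  have hsur : Function.Surjective f := by
    rintro ⟨g, hg⟩
    rcases hsurj g ((hmemC g).mp hg) with h | h
    · refine ⟨(1, ⟨g, h⟩), ?_⟩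
      apply Subtype.ext
      rw [hf]
      simp
    · refine ⟨(Multiplicative.ofAdd 1, ⟨a * g, h⟩), ?_⟩
      apply Subtype.ext
      rw [hf]
      have h1 : (Multiplicative.toAdd (Multiplicative.ofAdd (1 : ZMod 2))).val = 1 := by
        rw [toAdd_ofAdd]
        rfl
      rw [h1, pow_one, ← mul_assoc, ha2, one_mul]
  exact ⟨(MulEquiv.ofBijective f ⟨hinj, hsur⟩).symm⟩

/-- the Sylow `2`-subgroups of a group with Sylow `2`-subgroups of order `8` are elementary
abelian as soon as a subgroup of order divisible by `8` has no elements of order `4` -/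
theorem sylow_two_elem [Finite G] (C : Subgroup G)
    (hG : (Nat.card G).factorization 2 = 3) (hC : 8 ∣ Nat.card C)
    (hsq : ∀ y ∈ C, ∀ k : ℕ, y ^ 2 ^ k = 1 → y * y = 1) (S : Sylow 2 G) :
    Nat.card S = 8 ∧ ∀ x ∈ S, x * x = 1 := by
  have : Fact (Nat.Prime 2) := ⟨Nat.prime_two⟩
  have hS : ∀ P : Sylow 2 G, Nat.card P = 8 := by
    intro P
    rw [Sylow.card_eq_multiplicity, hG]
    norm_num
  refine ⟨hS S, ?_⟩
  obtain ⟨Q⟩ : Nonempty (Sylow 2 ↥C) := inferInstance
  have hQ : Nat.card Q = 8 := by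
    rw [Sylow.card_eq_multiplicity]
    have hC0 : Nat.card C ≠ 0 := Nat.card_pos.ne'
    have hG0 : Nat.card G ≠ 0 := Nat.card_pos.ne'
    have h1 : (Nat.card C).factorization 2 ≤ 3 := by
      rw [← hG]
      exact (Nat.factorization_le_iff_dvd hC0 hG0).mpr (Subgroup.card_subgroup_dvd_card C) 2
    have h2 : 3 ≤ (Nat.card C).factorization 2 := by
      have h3 : (2 : ℕ) ^ 3 ∣ Nat.card C := by norm_num; exact hC
      exact (Nat.Prime.pow_dvd_iff_le_factorization Nat.prime_two hC0).mp h3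
    have h4 : (Nat.card C).factorization 2 = 3 := le_antisymm h1 h2
    rw [h4]
    norm_num
  have hQ' : Nat.card ((Q : Subgroup ↥C).map C.subtype) = 8 := by
    rw [Subgroup.card_map_of_injective C.subtype_injective]
    exact hQ
  have hQp : IsPGroup 2 ((Q : Subgroup ↥C).map C.subtype) := Q.2.map C.subtype
  obtain ⟨P, hP⟩ := hQp.exists_le_sylow
  have hPQ : (Q : Subgroup ↥C).map C.subtype = (P : Subgroup G) :=
    Subgroup.eq_of_le_of_card_ge hP (by rw [hQ', hS P])
  obtain ⟨g, hg⟩ := MulAction.exists_smul_eq G P S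
  intro x hx
  rw [← hg] at hx
  have hx' : x ∈ MulAut.conj g • (P : Subgroup G) := hx
  obtain ⟨y, hy, rfl⟩ := (Subgroup.mem_smul_pointwise_iff_exists _ _ _).mp hx'
  have hyQ : y ∈ (Q : Subgroup ↥C).map C.subtype := by rw [hPQ]; exact hy
  obtain ⟨y', hy', rfl⟩ := Subgroup.mem_map.mp hyQ
  obtain ⟨k, hk⟩ := Q.2 ⟨y', hy'⟩
  have hk' : (C.subtype y') ^ 2 ^ k = 1 := by
    have h1 := congrArg (fun z : ↥(Q : Subgroup ↥C) => ((z : ↥C) : G)) hk
    simpa using h1
  have h5 := hsq (C.subtype y') y'.2 k hk'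
  show MulAut.conj g • C.subtype y' * MulAut.conj g • C.subtype y' = 1
  rw [MulAut.smul_def, ← map_mul, h5, map_one]

theorem z2_sq (ε : Multiplicative (ZMod 2)) : ε * ε = 1 := by
  revert ε
  decide

end abstract

section ree

variable {K : Type*} [Field K] [Fintype K] [CharP K 3] {m : ℕ}

/-- the involution of `H ∩ ²G₂` -/
theorem ree_inv_eq (T : ReeTw K m) (hK : Fintype.card K = 3 ^ (2 * m + 1)) (a : GL chevG2.Idx K)
    (haG : a ∈ twistedG2 K (3 ^ m)) (haH : a ∈ chevG2.diagonalSubgroup K) (ha1 : a ≠ 1)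
    (ha2 : a * a = 1) :
    a = ((g2t (-1 : K) (-1) : ↥(chevG2.group K)) : GL chevG2.Idx K) := by
  have h : a ∈ (reeTorus K m).range := by
    rw [reeTorus_range T hK]
    exact Subgroup.mem_inf.mpr ⟨haH, haG⟩
  obtain ⟨z, rfl⟩ := h
  rw [← map_mul, ← map_one (reeTorus K m)] at ha2
  have hz := reeTorus_injective m ha2
  have hz' : (z : K) * (z : K) = 1 := by rw [← Units.val_mul, hz, Units.val_one]
  have h3 : ((z : K) - 1) * ((z : K) + 1) = 0 := by linear_combination hz'
  rcases mul_eq_zero.mp h3 with h4 | h4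
  · exfalso
    apply ha1
    have h5 : z = 1 := Units.ext (by rw [Units.val_one]; linear_combination h4)
    rw [h5, map_one]
  · have h5 : (z : K) = -1 := by linear_combination h4
    rw [reeTorus_apply, h5, ree_odd_e.neg_one_pow]

omit [Fintype K] [CharP K 3] in
theorem three_pow_ne_zero (m : ℕ) : 3 ^ m ≠ 0 := pow_ne_zero _ (by norm_num)

/-- the root elements `X(u)` as elements of `²G₂` -/
def reeXg (m : ℕ) (u : K) : ↥(twistedG2 K (3 ^ m)) :=
  ⟨((reeX (3 ^ m) u : ↥(chevG2.group K)) : GL chevG2.Idx K),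
    reeX_mem (3 ^ m) (three_pow_ne_zero m) u⟩

/-- the root elements `Y(u)` as elements of `²G₂` -/
def reeYg (m : ℕ) (u : K) : ↥(twistedG2 K (3 ^ m)) :=
  ⟨((reeY (3 ^ m) u : ↥(chevG2.group K)) : GL chevG2.Idx K), reeY_mem (3 ^ m) ree_odd_e u⟩

/-- the rank one subgroup of `²G₂` -/
def reeL (K : Type*) [Field K] (m : ℕ) : Subgroup ↥(twistedG2 K (3 ^ m)) :=
  Subgroup.closure (Set.range (reeXg (K := K) m) ∪ Set.range (reeYg (K := K) m))

omit [Fintype K] [CharP K 3] in
theorem coe_reeXg (m : ℕ) (u : K) : ((reeXg m u : ↥(twistedG2 K (3 ^ m))) : GL chevG2.Idx K) =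
    ((reeX (3 ^ m) u : ↥(chevG2.group K)) : GL chevG2.Idx K) := rfl

omit [Fintype K] [CharP K 3] in
theorem coe_reeYg (m : ℕ) (u : K) : ((reeYg m u : ↥(twistedG2 K (3 ^ m))) : GL chevG2.Idx K) =
    ((reeY (3 ^ m) u : ↥(chevG2.group K)) : GL chevG2.Idx K) := rfl

omit [Fintype K] in
theorem reeXg_add (m : ℕ) (t u : K) : reeXg m t * reeXg m u = reeXg m (t + u) := by
  apply Subtype.ext
  have key := congrArg (fun g : ↥(chevG2.group K) => (g : GL chevG2.Idx K)) (reeX_add m t u)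
  simp only [Subgroup.coe_mul] at key
  simp only [Subgroup.coe_mul, coe_reeXg]
  exact key

omit [Fintype K] in
theorem reeYg_add (m : ℕ) (t u : K) : reeYg m t * reeYg m u = reeYg m (t + u) := by
  apply Subtype.ext
  have key := congrArg (fun g : ↥(chevG2.group K) => (g : GL chevG2.Idx K)) (reeY_add m t u)
  simp only [Subgroup.coe_mul] at key
  simp only [Subgroup.coe_mul, coe_reeYg]
  exact key

omit [Fintype K] in
theorem reeg_rel1 (m : ℕ) (t u : K) (ht : t ≠ 0) :
    (reeXg m t * reeYg m (-t⁻¹) * reeXg m t) * reeXg m u *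
      (reeXg m t * reeYg m (-t⁻¹) * reeXg m t)⁻¹ = reeYg m (-(t⁻¹ ^ 2 * u)) := by
  apply Subtype.ext
  have key := congrArg (fun g : ↥(chevG2.group K) => (g : GL chevG2.Idx K))
    (ree_rel1 (3 ^ m) ree_odd_e t u ht)
  simp only [Subgroup.coe_mul, Subgroup.coe_inv] at key
  simp only [Subgroup.coe_mul, Subgroup.coe_inv, coe_reeXg, coe_reeYg]
  exact key

omit [Fintype K] in
theorem reeg_rel2 (m : ℕ) (t u : K) (ht : t ≠ 0) :
    (reeYg m t * reeXg m (-t⁻¹) * reeYg m t) * reeYg m u *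
      (reeYg m t * reeXg m (-t⁻¹) * reeYg m t)⁻¹ = reeXg m (-(t⁻¹ ^ 2 * u)) := by
  apply Subtype.ext
  have key := congrArg (fun g : ↥(chevG2.group K) => (g : GL chevG2.Idx K))
    (ree_rel2 (3 ^ m) ree_odd_e t u ht)
  simp only [Subgroup.coe_mul, Subgroup.coe_inv] at key
  simp only [Subgroup.coe_mul, Subgroup.coe_inv, coe_reeXg, coe_reeYg]
  exact key

omit [Fintype K] in
theorem reeg_xy (m : ℕ) (t u : K) (h : reeXg m t = reeYg m u) : t = 0 ∧ u = 0 := by
  have key := congrArg (fun g : ↥(twistedG2 K (3 ^ m)) => (g : GL chevG2.Idx K)) h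
  simp only [coe_reeXg, coe_reeYg] at key
  exact ree_xy (3 ^ m) ree_odd_e t u (Subtype.ext key)

omit [Fintype K] in
theorem reeg_hw (m : ℕ) :
    (reeXg m (1 : K) * reeYg m (-1) * reeXg m 1) * (reeXg m 1 * reeYg m (-1) * reeXg m 1) = 1 := by
  apply Subtype.ext
  have key := congrArg (fun g : ↥(chevG2.group K) => (g : GL chevG2.Idx K))
    (ree_hw (K := K) (3 ^ m) ree_odd_e)
  simp only [Subgroup.coe_mul, Subgroup.coe_one] at key
  simp only [Subgroup.coe_mul, Subgroup.coe_one, coe_reeXg, coe_reeYg]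
  exact key

/-- the rank one subgroup is `PSL₂(K)` -/
theorem reeL_iso : Nonempty (↥(reeL K m) ≃* Matrix.ProjectiveSpecialLinearGroup (Fin 2) K) :=
  psl_iso_closure (reeXg m) (reeYg m) (reeXg_add m) (reeYg_add m) (reeg_rel1 m) (reeg_rel2 m)
    (reeg_xy m) (reeg_hw m)

/-- the centraliser of the involution of `H ∩ ²G₂` is `Z₂ × PSL₂(K)` -/
theorem ree_cent_iso (T : ReeTw K m) (hK : Fintype.card K = 3 ^ (2 * m + 1))
    (a : ↥(twistedG2 K (3 ^ m))) (haH : (a : GL chevG2.Idx K) ∈ chevG2.diagonalSubgroup K)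
    (ha1 : a ≠ 1) (ha2 : a * a = 1) :
    Nonempty (↥(Subgroup.centralizer ({a} : Set ↥(twistedG2 K (3 ^ m)))) ≃*
      Multiplicative (ZMod 2) × Matrix.ProjectiveSpecialLinearGroup (Fin 2) K) := by
  have hav : (a : GL chevG2.Idx K) =
      ((g2t (-1 : K) (-1) : ↥(chevG2.group K)) : GL chevG2.Idx K) :=
    ree_inv_eq T hK a a.2 haH (fun h => ha1 (Subtype.ext h)) (congrArg Subtype.val ha2)
  obtain ⟨e⟩ := reeL_iso (K := K) (m := m)
  have hcen : Subgroup.center ↥(reeL K m) = ⊥ :=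
    center_eq_bot_of_mulEquiv e (psl2_center_bot two_ne_zero_char3)
  have hXc : ∀ u : K, a * reeXg m u = reeXg m u * a := by
    intro u
    apply Subtype.ext
    show (a : GL chevG2.Idx K) * _ = _ * (a : GL chevG2.Idx K)
    rw [hav]
    exact congrArg (fun g : ↥(chevG2.group K) => (g : GL chevG2.Idx K)) (reeInv_comm_X (3 ^ m) u)
  have hYc : ∀ u : K, a * reeYg m u = reeYg m u * a := by
    intro u
    apply Subtype.ext
    show (a : GL chevG2.Idx K) * _ = _ * (a : GL chevG2.Idx K)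
    rw [hav]
    exact congrArg (fun g : ↥(chevG2.group K) => (g : GL chevG2.Idx K)) (reeInv_comm_Y (3 ^ m) u)
  have hle : reeL K m ≤ Subgroup.centralizer ({a} : Set ↥(twistedG2 K (3 ^ m))) := by
    unfold reeL
    rw [Subgroup.closure_le]
    rintro x (⟨u, rfl⟩ | ⟨u, rfl⟩)
    · exact Subgroup.mem_centralizer_iff.mpr
        (fun y hy => by rw [Set.mem_singleton_iff.mp hy]; exact hXc u)
    · exact Subgroup.mem_centralizer_iff.mpr
        (fun y hy => by rw [Set.mem_singleton_iff.mp hy]; exact hYc u)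
  have hLC : ∀ g ∈ reeL K m, a * g = g * a := fun g hg =>
    Subgroup.mem_centralizer_iff.mp (hle hg) a rfl
  have hsurj : ∀ g : ↥(twistedG2 K (3 ^ m)), a * g = g * a →
      g ∈ reeL K m ∨ a * g ∈ reeL K m := by
    intro g hc
    have h1 := ree_cent_cases T hK ((reeL K m).map (Subgroup.subtype _))
      (fun u => Subgroup.mem_map.mpr
        ⟨reeXg m u, Subgroup.subset_closure (Or.inl ⟨u, rfl⟩), rfl⟩)
      (fun u => Subgroup.mem_map.mpr
        ⟨reeYg m u, Subgroup.subset_closure (Or.inr ⟨u, rfl⟩), rfl⟩)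
      g.1 g.2 (by rw [← hav]; exact congrArg Subtype.val hc)
    rcases h1 with h | h
    · left
      obtain ⟨g', hg', e'⟩ := Subgroup.mem_map.mp h
      have h2 : g' = g := Subtype.ext e'
      rw [← h2]
      exact hg'
    · right
      obtain ⟨g', hg', e'⟩ := Subgroup.mem_map.mp h
      have h2 : g' = a * g := by
        apply Subtype.ext
        rw [← hav] at e'
        exact e'
      rw [← h2]
      exact hg'
  obtain ⟨e2⟩ := cent_iso_prod a (reeL K m) ha2 ha1 hcen hLC hsurj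
  exact ⟨e2.trans (MulEquiv.prodCongr (MulEquiv.refl _) e)⟩

omit [Fintype K] [CharP K 3] in
theorem three_pow_mod8 (m : ℕ) : ∃ j, 3 ^ (2 * m + 1) = 8 * j + 3 := by
  have h : 3 ^ (2 * m + 1) % 8 = 3 := by
    rw [pow_succ, pow_mul, Nat.mul_mod, Nat.pow_mod]
    norm_num
  exact ⟨3 ^ (2 * m + 1) / 8, by omega⟩

/-- `2` is not a square in the field with `3^(2m+1)` elements -/
theorem two_not_square (hK : Fintype.card K = 3 ^ (2 * m + 1)) : ¬ IsSquare (2 : K) := by
  have h3 : (2 : K) = -1 := by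
    have h : ((3 : ℕ) : K) = 0 := CharP.cast_eq_zero K 3
    have h' : (3 : K) = 0 := by exact_mod_cast h
    linear_combination h'
  rw [h3, FiniteField.isSquare_neg_one_iff, hK]
  have h : 3 ^ (2 * m + 1) % 4 = 3 := by
    rw [pow_succ, pow_mul, Nat.mul_mod, Nat.pow_mod]
    norm_num
  omega

/-- the Sylow `2`-subgroups of `²G₂` are elementary abelian of order `8` -/
theorem ree_sylow_two (T : ReeTw K m) (hK : Fintype.card K = 3 ^ (2 * m + 1))
    (a : ↥(twistedG2 K (3 ^ m)))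
    (e : ↥(Subgroup.centralizer ({a} : Set ↥(twistedG2 K (3 ^ m)))) ≃*
      Multiplicative (ZMod 2) × Matrix.ProjectiveSpecialLinearGroup (Fin 2) K)
    (S : Sylow 2 ↥(twistedG2 K (3 ^ m))) : Nat.card S = 8 ∧ ∀ x ∈ S, x * x = 1 := by
  obtain ⟨j, hj⟩ := three_pow_mod8 m
  have hcard : Nat.card ↥(twistedG2 K (3 ^ m)) =
      (3 ^ (2 * m + 1)) ^ 3 * (3 ^ (2 * m + 1) - 1) * ((3 ^ (2 * m + 1)) ^ 3 + 1) :=
    (Cfsg.Agent.Lib.Helper18.ree_bot T hK).card_tw hK (ree_unip_card T hK) (ree_diag_card T hK)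
  have hsub : 8 * j + 3 - 1 = 8 * j + 2 := by omega
  have o1 : Odd (8 * j + 3) := ⟨4 * j + 1, by ring⟩
  have o2 : Odd (4 * j + 1) := ⟨2 * j, by ring⟩
  have o3 : Odd (2 * j + 1) := ⟨j, by ring⟩
  have o4 : Odd ((8 * j + 3) * (8 * j + 2) + 1) := ⟨(8 * j + 3) * (4 * j + 1), by ring⟩
  apply sylow_two_elem (Subgroup.centralizer ({a} : Set ↥(twistedG2 K (3 ^ m)))) ?_ ?_ ?_ S
  · rw [hcard, hj, hsub]
    have ok : Odd ((8 * j + 3) ^ 3 * (4 * j + 1) * (2 * j + 1) *
        ((8 * j + 3) * (8 * j + 2) + 1)) := ((o1.pow.mul o2).mul o3).mul o4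
    have e1 : (8 * j + 3) ^ 3 * (8 * j + 2) * ((8 * j + 3) ^ 3 + 1) =
        2 ^ 3 * ((8 * j + 3) ^ 3 * (4 * j + 1) * (2 * j + 1) *
          ((8 * j + 3) * (8 * j + 2) + 1)) := by ring
    rw [e1, Nat.factorization_mul (by norm_num) ok.pos.ne',
      Nat.Prime.factorization_pow Nat.prime_two, Finsupp.add_apply, Finsupp.single_eq_same,
      Nat.factorization_eq_zero_of_not_dvd ok.not_two_dvd_nat]
  · have h1 : Nat.card ↥(Subgroup.centralizer ({a} : Set ↥(twistedG2 K (3 ^ m)))) =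
        2 * Nat.card (Matrix.ProjectiveSpecialLinearGroup (Fin 2) K) := by
      rw [Nat.card_congr e.toEquiv, Nat.card_prod]
      congr 1
      rw [Nat.card_eq_fintype_card]
      rfl
    have h2 := Cfsg.Agent.Lib.Helper41.card_psl2_mul_gcd (F := K)
    rw [hK, hj, hsub] at h2
    have h3 : Nat.gcd 2 (8 * j + 2) = 2 :=
      Nat.gcd_eq_left (⟨4 * j + 1, by ring⟩ : 2 ∣ 8 * j + 2)
    rw [h3] at h2
    have h4 : (8 * j + 3) ^ 2 - 1 = (8 * j + 2) * (8 * j + 4) := by
      have : (8 * j + 3) ^ 2 = (8 * j + 2) * (8 * j + 4) + 1 := by ring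
      rw [this, Nat.add_sub_cancel]
    rw [h4] at h2
    rw [h1, mul_comm, h2]
    exact ⟨(8 * j + 3) * (4 * j + 1) * (2 * j + 1), by ring⟩
  · intro y hy k hk
    have h0 : (⟨y, hy⟩ : ↥(Subgroup.centralizer ({a} : Set ↥(twistedG2 K (3 ^ m))))) ^ 2 ^ k
        = 1 := Subtype.ext hk
    have h1 : e ⟨y, hy⟩ ^ 2 ^ k = 1 := by rw [← map_pow, h0, map_one]
    have h2 : (e ⟨y, hy⟩).2 ^ 2 ^ k = 1 := by
      have h := congrArg Prod.snd h1
      simpa using h
    have h3 := psl2_two_pow (two_not_square hK) _ k h2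
    have h5 : e ⟨y, hy⟩ * e ⟨y, hy⟩ = 1 :=
      Prod.ext (z2_sq _) (by rw [Prod.snd_mul, ← pow_two]; exact h3)
    rw [← map_mul] at h5
    have h6 := e.map_eq_one_iff.mp h5
    exact congrArg Subtype.val h6

end ree

end Cfsg.Agent.Lib.Helper17
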