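import Cfsg.Agent.Lib.Helper17.ReeC4

set_option autoImplicit false

/-!
# A four-group in `PSL₂(F)`, `F` of characteristic `3` in which `2` is not a square

It is its own centraliser and its normaliser has order `12`.
-/

namespace Cfsg.Agent.Lib.Helper17

open Cfsg.Agent.Lib.Helper83 (mat2_ext scalar2)

section klein

variable {G : Type*} [Group G]

/-- the four-group generated by two commuting involutions -/
def kleinSub (a b : G) (ha : a * a = 1) (hb : b * b = 1) (hab : b * a = a * b) : Subgroup G where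
  carrier := {g | g = 1 ∨ g = a ∨ g = b ∨ g = a * b}
  one_mem' := Or.inl rfl
  mul_mem' := by
    have h1 : ∀ x : G, a * (a * x) = x := fun x => by rw [← mul_assoc, ha, one_mul]
    have h2 : ∀ x : G, b * (b * x) = x := fun x => by rw [← mul_assoc, hb, one_mul]
    have h3 : ∀ x : G, b * (a * x) = a * (b * x) := fun x => by
      rw [← mul_assoc, hab, mul_assoc]
    intro x y hx hy
    show x * y = 1 ∨ x * y = a ∨ x * y = b ∨ x * y = a * b
    rcases hx with hx | hx | hx | hx <;> rcases hy with hy | hy | hy | hy <;> rw [hx, hy] <;>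
      first
        | (refine Or.inl ?_; simp only [mul_assoc, mul_one, one_mul, h1, h2, h3, ha, hb, hab]; done)
        | (refine Or.inr (Or.inl ?_);
            simp only [mul_assoc, mul_one, one_mul, h1, h2, h3, ha, hb, hab]; done)
        | (refine Or.inr (Or.inr (Or.inl ?_));
            simp only [mul_assoc, mul_one, one_mul, h1, h2, h3, ha, hb, hab]; done)
        | (refine Or.inr (Or.inr (Or.inr ?_));
            simp only [mul_assoc, mul_one, one_mul, h1, h2, h3, ha, hb, hab]; done)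
  inv_mem' := by
    intro x hx
    show x⁻¹ = 1 ∨ x⁻¹ = a ∨ x⁻¹ = b ∨ x⁻¹ = a * b
    rcases hx with hx | hx | hx | hx
    · rw [hx, inv_one]
      exact Or.inl rfl
    · rw [hx, inv_eq_of_mul_eq_one_right ha]
      exact Or.inr (Or.inl rfl)
    · rw [hx, inv_eq_of_mul_eq_one_right hb]
      exact Or.inr (Or.inr (Or.inl rfl))
    · have h : (a * b) * (a * b) = 1 := by
        rw [mul_assoc, ← mul_assoc b, hab, mul_assoc, hb, mul_one, ha]
      rw [hx, inv_eq_of_mul_eq_one_right h]
      exact Or.inr (Or.inr (Or.inr rfl))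

theorem mem_kleinSub (a b : G) (ha : a * a = 1) (hb : b * b = 1) (hab : b * a = a * b) (g : G) :
    g ∈ kleinSub a b ha hb hab ↔ g = 1 ∨ g = a ∨ g = b ∨ g = a * b := Iff.rfl

theorem kleinSub_sq (a b : G) (ha : a * a = 1) (hb : b * b = 1) (hab : b * a = a * b) (g : G)
    (hg : g ∈ kleinSub a b ha hb hab) : g * g = 1 := by
  rcases hg with hg | hg | hg | hg
  · rw [hg, mul_one]
  · rw [hg]
    exact ha
  · rw [hg]
    exact hb
  · rw [hg, mul_assoc, ← mul_assoc b, hab, mul_assoc, hb, mul_one, ha]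

theorem kleinSub_comm (a b : G) (ha : a * a = 1) (hb : b * b = 1) (hab : b * a = a * b) (g h : G)
    (hg : g ∈ kleinSub a b ha hb hab) (hh : h ∈ kleinSub a b ha hb hab) : g * h = h * g := by
  have h1 : ∀ x : G, a * (a * x) = x := fun x => by rw [← mul_assoc, ha, one_mul]
  have h2 : ∀ x : G, b * (b * x) = x := fun x => by rw [← mul_assoc, hb, one_mul]
  have h3 : ∀ x : G, b * (a * x) = a * (b * x) := fun x => by
    rw [← mul_assoc, hab, mul_assoc]
  rcases hg with hg | hg | hg | hg <;> rcases hh with hh | hh | hh | hh <;> rw [hg, hh] <;>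
    simp only [mul_assoc, mul_one, one_mul, h1, h2, h3, ha, hb, hab]

theorem kleinSub_card (a b : G) (ha : a * a = 1) (hb : b * b = 1) (hab : b * a = a * b)
    (h1 : a ≠ 1) (h2 : b ≠ 1) (h3 : a ≠ b) : Nat.card (kleinSub a b ha hb hab) = 4 := by
  classical
  have hab1 : a * b ≠ 1 := by
    intro h
    apply h3
    have h4 : a = b⁻¹ := eq_inv_of_mul_eq_one_left h
    rw [h4, inv_eq_of_mul_eq_one_right hb]
  have haba : a * b ≠ a := by
    intro h
    exact h2 (mul_left_cancel (a := a) (by rw [h, mul_one]))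
  have habb : a * b ≠ b := by
    intro h
    exact h1 (mul_right_cancel (b := b) (by rw [h, one_mul]))
  have hs : ((kleinSub a b ha hb hab : Subgroup G) : Set G) =
      (({1, a, b, a * b} : Finset G) : Set G) := by
    ext g
    simp only [SetLike.mem_coe, mem_kleinSub, Finset.coe_insert, Finset.coe_singleton,
      Set.mem_insert_iff, Set.mem_singleton_iff]
  show Nat.card ↥((kleinSub a b ha hb hab : Subgroup G) : Set G) = 4
  rw [Nat.card_coe_set_eq, hs, Set.ncard_coe_finset]
  rw [Finset.card_insert_of_notMem, Finset.card_insert_of_notMem, Finset.card_insert_of_notMem,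
    Finset.card_singleton]
  · simp only [Finset.mem_singleton]
    exact fun h => habb h.symm
  · simp only [Finset.mem_insert, Finset.mem_singleton, not_or]
    exact ⟨h3, fun h => haba h.symm⟩
  · simp only [Finset.mem_insert, Finset.mem_singleton, not_or]
    exact ⟨fun h => h1 h.symm, fun h => h2 h.symm, fun h => hab1 h.symm⟩

/-- in a finite subgroup, an element conjugating it into itself normalises it -/
theorem mem_normalizer_of_conj_mem (H : Subgroup G) [Finite H] (g : G)
    (h : ∀ x ∈ H, g * x * g⁻¹ ∈ H) : g ∈ Subgroup.normalizer (H : Set G) := by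
  rw [Subgroup.mem_normalizer_iff]
  intro n
  refine ⟨h n, fun hn => ?_⟩
  let f : ↥H → ↥H := fun x => ⟨g * x * g⁻¹, h x x.2⟩
  have hf : Function.Injective f := by
    intro x y hxy
    have h1 : g * (x : G) * g⁻¹ = g * (y : G) * g⁻¹ := congrArg Subtype.val hxy
    exact Subtype.ext (mul_left_cancel (mul_right_cancel h1))
  obtain ⟨x, hx⟩ := (Finite.injective_iff_surjective.mp hf) ⟨g * n * g⁻¹, hn⟩
  have h1 : g * (x : G) * g⁻¹ = g * n * g⁻¹ := congrArg Subtype.val hx
  rw [← mul_left_cancel (mul_right_cancel h1)]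
  exact x.2

end klein

section psl

variable {F : Type*} [Field F]

/-- two elements of `SL₂(F)` have the same image in `PSL₂(F)` iff they differ by a sign -/
theorem psl2_mk_eq_iff' (g h : Matrix.SpecialLinearGroup (Fin 2) F) {a b c d a' b' c' d' : F}
    (hg : g.1 = !![a, b; c, d]) (hh : h.1 = !![a', b'; c', d']) :
    (QuotientGroup.mk g : Matrix.ProjectiveSpecialLinearGroup (Fin 2) F) = QuotientGroup.mk h ↔
      (a' = a ∧ b' = b ∧ c' = c ∧ d' = d) ∨ (a' = -a ∧ b' = -b ∧ c' = -c ∧ d' = -d) := by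
  rw [QuotientGroup.eq, Matrix.SpecialLinearGroup.mem_center_iff]
  constructor
  · rintro ⟨r, hr, hrz⟩
    rw [scalar2] at hrz
    have hr2 : r ^ 2 = 1 := by simpa using hr
    have hr' : r = 1 ∨ r = -1 := by
      have h3 : (r - 1) * (r + 1) = 0 := by linear_combination hr2
      rcases mul_eq_zero.mp h3 with h4 | h4
      · left; linear_combination h4
      · right; linear_combination h4
    have h5 : h = g * (g⁻¹ * h) := by group
    have h6 := congrArg Subtype.val h5
    rw [Matrix.SpecialLinearGroup.coe_mul, ← hrz, hg, hh, Matrix.mul_fin_two] at h6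
    obtain ⟨e1, e2, e3, e4⟩ := mat2_inj h6
    rcases hr' with rfl | rfl
    · left
      exact ⟨by linear_combination e1, by linear_combination e2, by linear_combination e3,
        by linear_combination e4⟩
    · right
      exact ⟨by linear_combination e1, by linear_combination e2, by linear_combination e3,
        by linear_combination e4⟩
  · rintro (⟨e1, e2, e3, e4⟩ | ⟨e1, e2, e3, e4⟩)
    · refine ⟨1, one_pow _, ?_⟩
      have h1 : g = h := Subtype.ext (by rw [hg, hh, e1, e2, e3, e4])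
      rw [h1, inv_mul_cancel, scalar2]
      exact (Matrix.one_fin_two).symm
    · refine ⟨-1, by simp, ?_⟩
      rw [scalar2]
      obtain ⟨z, hz0⟩ : ∃ z : Matrix.SpecialLinearGroup (Fin 2) F, z.1 = !![-1, 0; 0, -1] :=
        ⟨⟨!![-1, 0; 0, -1], by simp [Matrix.det_fin_two]⟩, rfl⟩
      have hz : h = g * z := by
        apply Subtype.ext
        change h.1 = g.1 * z.1
        rw [hg, hh, hz0, Matrix.mul_fin_two, e1, e2, e3, e4]
        refine mat2_ext ?_ ?_ ?_ ?_ <;> ring
      have hz' : g⁻¹ * h = z := by rw [hz, inv_mul_cancel_left]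
      rw [hz', hz0]

theorem sl2_mul_val (g h : Matrix.SpecialLinearGroup (Fin 2) F) {a b c d a' b' c' d' : F}
    (hg : g.1 = !![a, b; c, d]) (hh : h.1 = !![a', b'; c', d']) :
    (g * h).1 = !![a * a' + b * c', a * b' + b * d'; c * a' + d * c', c * b' + d * d'] := by
  rw [Matrix.SpecialLinearGroup.coe_mul, hg, hh, Matrix.mul_fin_two]

theorem sl2_one_val : (1 : Matrix.SpecialLinearGroup (Fin 2) F).1 = !![1, 0; 0, 1] :=
  Matrix.one_fin_two

theorem psl2_mk_eq_one_iff (g : Matrix.SpecialLinearGroup (Fin 2) F) {a b c d : F}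
    (hg : g.1 = !![a, b; c, d]) :
    (QuotientGroup.mk g : Matrix.ProjectiveSpecialLinearGroup (Fin 2) F) = 1 ↔
      (1 = a ∧ 0 = b ∧ 0 = c ∧ 1 = d) ∨ (1 = -a ∧ 0 = -b ∧ 0 = -c ∧ 1 = -d) :=
  psl2_mk_eq_iff' g 1 hg sl2_one_val

theorem sq_one_cases (x : F) (h : x * x = 1) : x = 1 ∨ x = -1 := by
  have h3 : (x - 1) * (x + 1) = 0 := by linear_combination h
  rcases mul_eq_zero.mp h3 with h4 | h4
  · left; linear_combination h4
  · right; linear_combination h4

end psl

section psl3

variable {F : Type*} [Field F] [CharP F 3]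

theorem three_eq_zero' : (3 : F) = 0 := by
  have h : ((3 : ℕ) : F) = 0 := CharP.cast_eq_zero F 3
  exact_mod_cast h

theorem char3_two_mul (x : F) (h : 2 * x = 0) : x = 0 := by
  linear_combination x * (three_eq_zero' (F := F)) - h

variable (F)

/-- `i = [[0, 1], [-1, 0]]` -/
def qi : Matrix.SpecialLinearGroup (Fin 2) F := ⟨!![0, 1; -1, 0], by simp [Matrix.det_fin_two]⟩

/-- `j = [[1, 1], [1, -1]]` -/
def qj : Matrix.SpecialLinearGroup (Fin 2) F :=
  ⟨!![1, 1; 1, -1], by
    rw [Matrix.det_fin_two_of]; linear_combination (-1 : F) * (three_eq_zero' (F := F))⟩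

/-- `w = [[1, 1], [0, 1]]` -/
def qw : Matrix.SpecialLinearGroup (Fin 2) F := ⟨!![1, 1; 0, 1], by simp [Matrix.det_fin_two]⟩

omit [CharP F 3] in
theorem qi_val : (qi F).1 = !![0, 1; -1, 0] := rfl

theorem qj_val : (qj F).1 = !![1, 1; 1, -1] := rfl

omit [CharP F 3] in
theorem qw_val : (qw F).1 = !![1, 1; 0, 1] := rfl

/-- the image of `i` in `PSL₂(F)` -/
def Qi : Matrix.ProjectiveSpecialLinearGroup (Fin 2) F := QuotientGroup.mk (qi F)

/-- the image of `j` in `PSL₂(F)` -/
def Qj : Matrix.ProjectiveSpecialLinearGroup (Fin 2) F := QuotientGroup.mk (qj F)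

/-- the image of `w` in `PSL₂(F)` -/
def Qw : Matrix.ProjectiveSpecialLinearGroup (Fin 2) F := QuotientGroup.mk (qw F)

omit [CharP F 3] in
theorem Qi_sq : Qi F * Qi F = 1 := by
  unfold Qi
  rw [← QuotientGroup.mk_mul, psl2_mk_eq_one_iff _ (sl2_mul_val _ _ (qi_val F) (qi_val F))]
  right
  refine ⟨?_, ?_, ?_, ?_⟩ <;> ring

theorem Qj_sq : Qj F * Qj F = 1 := by
  unfold Qj
  rw [← QuotientGroup.mk_mul, psl2_mk_eq_one_iff _ (sl2_mul_val _ _ (qj_val F) (qj_val F))]
  right
  refine ⟨?_, ?_, ?_, ?_⟩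
  · linear_combination (three_eq_zero' (F := F))
  · ring
  · ring
  · linear_combination (three_eq_zero' (F := F))

theorem Qj_Qi : Qj F * Qi F = Qi F * Qj F := by
  unfold Qi Qj
  rw [← QuotientGroup.mk_mul, ← QuotientGroup.mk_mul,
    psl2_mk_eq_iff' _ _ (sl2_mul_val _ _ (qj_val F) (qi_val F))
      (sl2_mul_val _ _ (qi_val F) (qj_val F))]
  right
  refine ⟨?_, ?_, ?_, ?_⟩ <;> ring

theorem Qw_Qi : Qw F * Qi F = Qj F * Qw F := by
  unfold Qi Qj Qw
  rw [← QuotientGroup.mk_mul, ← QuotientGroup.mk_mul,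
    psl2_mk_eq_iff' _ _ (sl2_mul_val _ _ (qw_val F) (qi_val F))
      (sl2_mul_val _ _ (qj_val F) (qw_val F))]
  right
  refine ⟨?_, ?_, ?_, ?_⟩
  · ring
  · linear_combination (three_eq_zero' (F := F))
  · ring
  · ring

theorem Qw_Qj : Qw F * Qj F = (Qi F * Qj F) * Qw F := by
  unfold Qi Qj Qw
  rw [← QuotientGroup.mk_mul, ← QuotientGroup.mk_mul, ← QuotientGroup.mk_mul,
    psl2_mk_eq_iff' _ _ (sl2_mul_val _ _ (qw_val F) (qj_val F))
      (sl2_mul_val _ _ (sl2_mul_val _ _ (qi_val F) (qj_val F)) (qw_val F))]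
  right
  refine ⟨?_, ?_, ?_, ?_⟩
  · linear_combination (three_eq_zero' (F := F))
  · ring
  · ring
  · linear_combination (-1 : F) * (three_eq_zero' (F := F))

theorem Qw_cube : Qw F * Qw F * Qw F = 1 := by
  unfold Qw
  rw [← QuotientGroup.mk_mul, ← QuotientGroup.mk_mul,
    psl2_mk_eq_one_iff _ (sl2_mul_val _ _ (sl2_mul_val _ _ (qw_val F) (qw_val F)) (qw_val F))]
  left
  refine ⟨?_, ?_, ?_, ?_⟩
  · ring
  · linear_combination (-1 : F) * (three_eq_zero' (F := F))
  · ring
  · ring

omit [CharP F 3] in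
theorem Qi_ne_one : Qi F ≠ 1 := by
  unfold Qi
  rw [Ne, psl2_mk_eq_one_iff _ (qi_val F)]
  rintro (⟨h, -⟩ | ⟨h, -⟩)
  · exact one_ne_zero h
  · rw [neg_zero] at h
    exact one_ne_zero h

theorem Qj_ne_one : Qj F ≠ 1 := by
  unfold Qj
  rw [Ne, psl2_mk_eq_one_iff _ (qj_val F)]
  rintro (⟨-, h, -⟩ | ⟨-, h, -⟩)
  · exact one_ne_zero h.symm
  · exact one_ne_zero (by linear_combination h)

theorem Qi_ne_Qj : Qi F ≠ Qj F := by
  unfold Qi Qj
  rw [Ne, psl2_mk_eq_iff' _ _ (qi_val F) (qj_val F)]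
  rintro (⟨h, -⟩ | ⟨h, -⟩)
  · exact one_ne_zero h
  · rw [neg_zero] at h
    exact one_ne_zero h

/-- the four-group of `PSL₂(F)` -/
def psl2V : Subgroup (Matrix.ProjectiveSpecialLinearGroup (Fin 2) F) :=
  kleinSub (Qi F) (Qj F) (Qi_sq F) (Qj_sq F) (Qj_Qi F)

theorem psl2V_card : Nat.card (psl2V F) = 4 :=
  kleinSub_card _ _ _ _ _ (Qi_ne_one F) (Qj_ne_one F) (Qi_ne_Qj F)

theorem mem_psl2V (q : Matrix.ProjectiveSpecialLinearGroup (Fin 2) F) :
    q ∈ psl2V F ↔ q = 1 ∨ q = Qi F ∨ q = Qj F ∨ q = Qi F * Qj F := Iff.rfl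

/-- an element commuting with the images of `i` and `j` lies in the four-group -/
theorem psl2V_cent (q : Matrix.ProjectiveSpecialLinearGroup (Fin 2) F)
    (h1 : Qi F * q = q * Qi F) (h2 : Qj F * q = q * Qj F) : q ∈ psl2V F := by
  obtain ⟨g, rfl⟩ := QuotientGroup.mk_surjective q
  obtain ⟨a, b, c, d, hM⟩ : ∃ a b c d, g.1 = !![a, b; c, d] :=
    ⟨_, _, _, _, Matrix.eta_fin_two g.1⟩
  have hdet : a * d - b * c = 1 := by
    have := g.2
    rw [hM, Matrix.det_fin_two_of] at this
    exact this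
  unfold Qi at h1
  unfold Qj at h2
  rw [← QuotientGroup.mk_mul, ← QuotientGroup.mk_mul,
    psl2_mk_eq_iff' _ _ (sl2_mul_val _ _ (qi_val F) hM) (sl2_mul_val _ _ hM (qi_val F))] at h1
  rw [← QuotientGroup.mk_mul, ← QuotientGroup.mk_mul,
    psl2_mk_eq_iff' _ _ (sl2_mul_val _ _ (qj_val F) hM) (sl2_mul_val _ _ hM (qj_val F))] at h2
  rw [mem_psl2V]
  rcases h1 with ⟨e1, e2, e3, e4⟩ | ⟨e1, e2, e3, e4⟩ <;>
    rcases h2 with ⟨f1, f2, f3, f4⟩ | ⟨f1, f2, f3, f4⟩
  · have hc : c = -b := by linear_combination (-1 : F) * e1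
    have hd : d = a := by linear_combination (-1 : F) * e2
    have hbc : b = c := by linear_combination f1
    have hb : b = 0 := char3_two_mul b (by linear_combination hbc + hc)
    have hc0 : c = 0 := by rw [hc, hb, neg_zero]
    have ha : a * a = 1 := by rw [hd, hb, hc0] at hdet; linear_combination hdet
    left
    rw [psl2_mk_eq_one_iff g hM]
    rcases sq_one_cases a ha with h | h
    · left
      exact ⟨h.symm, hb.symm, hc0.symm, by rw [hd, h]⟩
    · right
      exact ⟨by rw [h, neg_neg], by rw [hb, neg_zero], by rw [hc0, neg_zero],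
        by rw [hd, h, neg_neg]⟩
  · have hc : c = -b := by linear_combination (-1 : F) * e1
    have hd : d = a := by linear_combination (-1 : F) * e2
    have ha : a = 0 := char3_two_mul a (by linear_combination f1 - hc)
    have hb : b * b = 1 := by rw [hd, ha, hc] at hdet; linear_combination hdet
    right; left
    unfold Qi
    rw [psl2_mk_eq_iff' g (qi F) hM (qi_val F)]
    rcases sq_one_cases b hb with h | h
    · left
      exact ⟨ha.symm, h.symm, by rw [hc, h], by rw [hd, ha]⟩
    · right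
      exact ⟨by rw [ha, neg_zero], by rw [h, neg_neg], by rw [hc, h, neg_neg],
        by rw [hd, ha, neg_zero]⟩
  · have hbc : c = b := by linear_combination e1
    have hd : d = -a := by linear_combination e2
    have hab : a = b := sub_eq_zero.mp (char3_two_mul (a - b) (by linear_combination f2 + hd))
    have hb : b * b = 1 := by
      rw [hd, hbc, hab] at hdet
      linear_combination hdet + b * b * (three_eq_zero' (F := F))
    right; right; left
    unfold Qj
    rw [psl2_mk_eq_iff' g (qj F) hM (qj_val F)]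
    rcases sq_one_cases b hb with h | h
    · left
      exact ⟨by rw [hab, h], h.symm, by rw [hbc, h], by rw [hd, hab, h]⟩
    · right
      exact ⟨by rw [hab, h, neg_neg], by rw [h, neg_neg], by rw [hbc, h, neg_neg],
        by rw [hd, hab, h, neg_neg]⟩
  · have hbc : c = b := by linear_combination e1
    have hd : d = -a := by linear_combination e2
    have hab : a = -b :=
      eq_neg_of_add_eq_zero_left (char3_two_mul (a + b) (by linear_combination f1 - hbc))
    have hb : b * b = 1 := by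
      rw [hd, hbc, hab] at hdet
      linear_combination hdet + b * b * (three_eq_zero' (F := F))
    right; right; right
    unfold Qi Qj
    rw [← QuotientGroup.mk_mul,
      psl2_mk_eq_iff' g _ hM (sl2_mul_val _ _ (qi_val F) (qj_val F))]
    rcases sq_one_cases b hb with h | h
    · right
      refine ⟨?_, ?_, ?_, ?_⟩
      · rw [hab, h]; ring
      · rw [h]; ring
      · rw [hbc, h]; ring
      · rw [hd, hab, h]; ring
    · left
      refine ⟨?_, ?_, ?_, ?_⟩
      · rw [hab, h]; ring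
      · rw [h]; ring
      · rw [hbc, h]; ring
      · rw [hd, hab, h]; ring

/-- no element fixes the image of `i` and moves the image of `j` to that of `ij` -/
theorem psl2V_no_swap (hns : ¬ IsSquare (2 : F))
    (q : Matrix.ProjectiveSpecialLinearGroup (Fin 2) F)
    (h1 : Qi F * q = q * Qi F) (hk : q * Qj F = (Qi F * Qj F) * q) : False := by
  obtain ⟨g, rfl⟩ := QuotientGroup.mk_surjective q
  obtain ⟨a, b, c, d, hM⟩ : ∃ a b c d, g.1 = !![a, b; c, d] :=
    ⟨_, _, _, _, Matrix.eta_fin_two g.1⟩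
  have hdet : a * d - b * c = 1 := by
    have := g.2
    rw [hM, Matrix.det_fin_two_of] at this
    exact this
  unfold Qi at h1
  unfold Qi Qj at hk
  rw [← QuotientGroup.mk_mul, ← QuotientGroup.mk_mul,
    psl2_mk_eq_iff' _ _ (sl2_mul_val _ _ (qi_val F) hM) (sl2_mul_val _ _ hM (qi_val F))] at h1
  rw [← QuotientGroup.mk_mul, ← QuotientGroup.mk_mul, ← QuotientGroup.mk_mul,
    psl2_mk_eq_iff' _ _ (sl2_mul_val _ _ hM (qj_val F))
      (sl2_mul_val _ _ (sl2_mul_val _ _ (qi_val F) (qj_val F)) hM)] at hk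
  rcases h1 with ⟨e1, e2, e3, e4⟩ | ⟨e1, e2, e3, e4⟩ <;>
    rcases hk with ⟨k1, k2, k3, k4⟩ | ⟨k1, k2, k3, k4⟩
  · have hc : c = -b := by linear_combination (-1 : F) * e1
    have hd : d = a := by linear_combination (-1 : F) * e2
    have hab : a = b :=
      sub_eq_zero.mp (char3_two_mul (a - b) (by linear_combination (-1 : F) * k2 - hd))
    rw [hd, hc, hab] at hdet
    exact hns ⟨b, by linear_combination (-2 : F) * hdet + b * b * (three_eq_zero' (F := F))⟩
  · have hc : c = -b := by linear_combination (-1 : F) * e1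
    have hd : d = a := by linear_combination (-1 : F) * e2
    have hab : a = -b :=
      eq_neg_of_add_eq_zero_left (char3_two_mul (a + b) (by linear_combination k1 + hc))
    rw [hd, hc, hab] at hdet
    exact hns ⟨b, by linear_combination (-2 : F) * hdet + b * b * (three_eq_zero' (F := F))⟩
  · have hbc : c = b := by linear_combination e1
    have hd : d = -a := by linear_combination e2
    have hb : b = 0 := char3_two_mul b (by linear_combination (-1 : F) * k1 - hbc)
    rw [hd, hbc, hb] at hdet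
    exact hns ⟨a, by linear_combination hdet + (three_eq_zero' (F := F))⟩
  · have hbc : c = b := by linear_combination e1
    have hd : d = -a := by linear_combination e2
    have ha : a = 0 := char3_two_mul a (by linear_combination k2 + hd)
    rw [hd, hbc, ha] at hdet
    exact hns ⟨b, by linear_combination hdet + (three_eq_zero' (F := F))⟩

/-- the four-group is its own centraliser -/
theorem psl2V_centralizer :
    Subgroup.centralizer (psl2V F : Set (Matrix.ProjectiveSpecialLinearGroup (Fin 2) F)) =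
      psl2V F := by
  apply le_antisymm
  · intro q hq
    rw [Subgroup.mem_centralizer_iff] at hq
    exact psl2V_cent F q (hq _ (Or.inr (Or.inl rfl))) (hq _ (Or.inr (Or.inr (Or.inl rfl))))
  · intro q hq
    rw [Subgroup.mem_centralizer_iff]
    intro h hh
    exact kleinSub_comm _ _ _ _ _ h q hh hq

theorem psl2V_finite : Finite (psl2V F) :=
  Nat.finite_of_card_ne_zero (by rw [psl2V_card]; norm_num)

theorem Qw_mem_normalizer :
    Qw F ∈ Subgroup.normalizer (psl2V F : Set (Matrix.ProjectiveSpecialLinearGroup (Fin 2) F)) := by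
  have := psl2V_finite F
  apply mem_normalizer_of_conj_mem
  intro x hx
  rw [mem_psl2V] at hx ⊢
  rcases hx with hx | hx | hx | hx
  · left
    rw [hx, mul_one, mul_inv_cancel]
  · right; right; left
    rw [hx, Qw_Qi, mul_inv_cancel_right]
  · right; right; right
    rw [hx, Qw_Qj, mul_inv_cancel_right]
  · right; left
    have h1 : Qw F * (Qi F * Qj F) = Qi F * Qw F := by
      calc Qw F * (Qi F * Qj F) = (Qw F * Qi F) * Qj F := by rw [mul_assoc]
        _ = Qj F * (Qw F * Qj F) := by rw [Qw_Qi, mul_assoc]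
        _ = (Qj F * Qi F) * Qj F * Qw F := by rw [Qw_Qj]; simp only [mul_assoc]
        _ = Qi F * (Qj F * Qj F) * Qw F := by rw [Qj_Qi]; simp only [mul_assoc]
        _ = Qi F * Qw F := by rw [Qj_sq, mul_one]
    rw [hx, h1, mul_inv_cancel_right]

/-- a normalising element fixing the image of `i` lies in the four-group -/
theorem psl2V_norm_fix (hns : ¬ IsSquare (2 : F))
    (n : Matrix.ProjectiveSpecialLinearGroup (Fin 2) F)
    (hn : n ∈ Subgroup.normalizer
      (psl2V F : Set (Matrix.ProjectiveSpecialLinearGroup (Fin 2) F)))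
    (h1 : n * Qi F = Qi F * n) : n ∈ psl2V F := by
  have hj : n * Qj F * n⁻¹ ∈ psl2V F :=
    (Subgroup.mem_normalizer_iff.mp hn (Qj F)).mp (Or.inr (Or.inr (Or.inl rfl)))
  rw [mem_psl2V] at hj
  rcases hj with hj | hj | hj | hj
  · exfalso
    apply Qj_ne_one F
    have h2 := mul_inv_eq_iff_eq_mul.mp hj
    rw [one_mul] at h2
    exact mul_left_cancel (a := n) (by rw [h2, mul_one])
  · exfalso
    apply Qi_ne_Qj F
    have h2 := mul_inv_eq_iff_eq_mul.mp hj
    rw [← h1] at h2
    exact (mul_left_cancel h2).symm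
  · exact psl2V_cent F n h1.symm (mul_inv_eq_iff_eq_mul.mp hj).symm
  · exact (psl2V_no_swap F hns n h1.symm (mul_inv_eq_iff_eq_mul.mp hj)).elim

/-- the normaliser of the four-group is covered by three of its cosets -/
theorem psl2V_norm_cases (hns : ¬ IsSquare (2 : F))
    (n : Matrix.ProjectiveSpecialLinearGroup (Fin 2) F)
    (hn : n ∈ Subgroup.normalizer
      (psl2V F : Set (Matrix.ProjectiveSpecialLinearGroup (Fin 2) F))) :
    n ∈ psl2V F ∨ (Qw F)⁻¹ * n ∈ psl2V F ∨ (Qw F)⁻¹ * ((Qw F)⁻¹ * n) ∈ psl2V F := by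
  have hw := Qw_mem_normalizer F
  have hi : n * Qi F * n⁻¹ ∈ psl2V F :=
    (Subgroup.mem_normalizer_iff.mp hn (Qi F)).mp (Or.inr (Or.inl rfl))
  rw [mem_psl2V] at hi
  have e1 : (Qw F)⁻¹ * Qj F = Qi F * (Qw F)⁻¹ := by
    rw [inv_mul_eq_iff_eq_mul, ← mul_assoc, Qw_Qi, mul_inv_cancel_right]
  have e2 : (Qw F)⁻¹ * (Qi F * Qj F) = Qj F * (Qw F)⁻¹ := by
    rw [inv_mul_eq_iff_eq_mul, ← mul_assoc, Qw_Qj, mul_inv_cancel_right]
  rcases hi with hi | hi | hi | hi
  · exfalso
    apply Qi_ne_one F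
    have h2 := mul_inv_eq_iff_eq_mul.mp hi
    rw [one_mul] at h2
    exact mul_left_cancel (a := n) (by rw [h2, mul_one])
  · left
    exact psl2V_norm_fix F hns n hn (mul_inv_eq_iff_eq_mul.mp hi)
  · right; left
    apply psl2V_norm_fix F hns _ (mul_mem (inv_mem hw) hn)
    have h2 := mul_inv_eq_iff_eq_mul.mp hi
    calc (Qw F)⁻¹ * n * Qi F = (Qw F)⁻¹ * (n * Qi F) := by rw [mul_assoc]
      _ = ((Qw F)⁻¹ * Qj F) * n := by rw [h2, mul_assoc]
      _ = Qi F * ((Qw F)⁻¹ * n) := by rw [e1, mul_assoc]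
  · right; right
    apply psl2V_norm_fix F hns _ (mul_mem (inv_mem hw) (mul_mem (inv_mem hw) hn))
    have h2 := mul_inv_eq_iff_eq_mul.mp hi
    calc (Qw F)⁻¹ * ((Qw F)⁻¹ * n) * Qi F = (Qw F)⁻¹ * ((Qw F)⁻¹ * (n * Qi F)) := by
          simp only [mul_assoc]
      _ = (Qw F)⁻¹ * (((Qw F)⁻¹ * (Qi F * Qj F)) * n) := by rw [h2]; simp only [mul_assoc]
      _ = ((Qw F)⁻¹ * Qj F) * ((Qw F)⁻¹ * n) := by rw [e2]; simp only [mul_assoc]
      _ = Qi F * ((Qw F)⁻¹ * ((Qw F)⁻¹ * n)) := by rw [e1, mul_assoc]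

theorem Qw_not_mem : Qw F ∉ psl2V F := by
  intro h
  apply Qi_ne_Qj F
  have h1 : Qw F * Qi F = Qi F * Qw F :=
    kleinSub_comm _ _ _ _ _ _ _ h (Or.inr (Or.inl rfl))
  rw [Qw_Qi] at h1
  exact (mul_right_cancel h1).symm

theorem Qw_pow_not_mem (k : ℕ) (hk : k < 3) (h : Qw F ^ k ∈ psl2V F) : k = 0 := by
  by_contra hk0
  have hk' : k = 1 ∨ k = 2 := by omega
  rcases hk' with rfl | rfl
  · rw [pow_one] at h
    exact Qw_not_mem F h
  · apply Qw_not_mem F
    have h1 : (Qw F ^ 2)⁻¹ = Qw F := by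
      apply inv_eq_of_mul_eq_one_right
      rw [pow_two]
      exact Qw_cube F
    rw [← h1]
    exact inv_mem h

theorem Qw_pow_aux (i j : ℕ) (hij : i ≤ j) (hj : j < 3)
    (v v' : Matrix.ProjectiveSpecialLinearGroup (Fin 2) F) (hv : v ∈ psl2V F)
    (hv' : v' ∈ psl2V F) (h : Qw F ^ i * v = Qw F ^ j * v') : i = j ∧ v = v' := by
  obtain ⟨k, rfl⟩ := Nat.exists_eq_add_of_le hij
  rw [pow_add, mul_assoc] at h
  have h1 := mul_left_cancel h
  have h2 : Qw F ^ k = v * v'⁻¹ := by rw [h1, mul_inv_cancel_right]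
  have h3 : k = 0 := Qw_pow_not_mem F k (by omega) (by rw [h2]; exact mul_mem hv (inv_mem hv'))
  subst h3
  rw [pow_zero, one_mul] at h1
  exact ⟨rfl, h1⟩

/-- the normaliser of the four-group has order `12` -/
theorem psl2V_normalizer_card (hns : ¬ IsSquare (2 : F)) :
    Nat.card (Subgroup.normalizer
      (psl2V F : Set (Matrix.ProjectiveSpecialLinearGroup (Fin 2) F))) = 12 := by
  have hw := Qw_mem_normalizer F
  have hle : psl2V F ≤ Subgroup.normalizer
      (psl2V F : Set (Matrix.ProjectiveSpecialLinearGroup (Fin 2) F)) := Subgroup.le_normalizer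
  let f : ↥(psl2V F) × Fin 3 → ↥(Subgroup.normalizer
      (psl2V F : Set (Matrix.ProjectiveSpecialLinearGroup (Fin 2) F))) := fun p =>
    ⟨Qw F ^ (p.2 : ℕ) * (p.1 : Matrix.ProjectiveSpecialLinearGroup (Fin 2) F),
      mul_mem (pow_mem hw _) (hle p.1.2)⟩
  have hf : Function.Bijective f := by
    constructor
    · rintro ⟨v, i⟩ ⟨v', j⟩ h
      have h1 : Qw F ^ (i : ℕ) * (v : Matrix.ProjectiveSpecialLinearGroup (Fin 2) F) =
          Qw F ^ (j : ℕ) * (v' : Matrix.ProjectiveSpecialLinearGroup (Fin 2) F) :=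
        congrArg Subtype.val h
      rcases le_total (i : ℕ) (j : ℕ) with hij | hij
      · obtain ⟨h2, h3⟩ := Qw_pow_aux F _ _ hij j.isLt _ _ v.2 v'.2 h1
        rw [Prod.mk.injEq]
        exact ⟨Subtype.ext h3, Fin.ext h2⟩
      · obtain ⟨h2, h3⟩ := Qw_pow_aux F _ _ hij i.isLt _ _ v'.2 v.2 h1.symm
        rw [Prod.mk.injEq]
        exact ⟨Subtype.ext h3.symm, Fin.ext h2.symm⟩
    · rintro ⟨n, hn⟩
      rcases psl2V_norm_cases F hns n hn with h | h | h
      · refine ⟨(⟨n, h⟩, 0), ?_⟩
        apply Subtype.ext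
        show Qw F ^ ((0 : Fin 3) : ℕ) * n = n
        rw [Fin.val_zero, pow_zero, one_mul]
      · refine ⟨(⟨_, h⟩, 1), ?_⟩
        apply Subtype.ext
        show Qw F ^ ((1 : Fin 3) : ℕ) * ((Qw F)⁻¹ * n) = n
        rw [Fin.val_one, pow_one, mul_inv_cancel_left]
      · refine ⟨(⟨_, h⟩, 2), ?_⟩
        apply Subtype.ext
        show Qw F ^ ((2 : Fin 3) : ℕ) * ((Qw F)⁻¹ * ((Qw F)⁻¹ * n)) = n
        rw [Fin.val_two, pow_two, mul_assoc, mul_inv_cancel_left, mul_inv_cancel_left]
  rw [← Nat.card_congr (Equiv.ofBijective f hf), Nat.card_prod, psl2V_card, Nat.card_fin]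

end psl3

end Cfsg.Agent.Lib.Helper17
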