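import Cfsg.Agent.Lib.Helper17.ReeD1

set_option autoImplicit false

/-!
# Counting involutions, and the normaliser of an elementary abelian Sylow `2`-subgroup

Abstract group theory used for the Sylow `2`-subgroups of the Ree groups.
-/

namespace Cfsg.Agent.Lib.Helper17

section orbit

variable {G : Type*} [Group G]

/-- orbit-stabiliser for the conjugation action of a subgroup on an element -/
theorem conj_orbit_card (N D : Subgroup G) (a : G)
    (hD : ∀ g : G, g ∈ D ↔ g ∈ N ∧ a * g = g * a) :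
    Nat.card N = Set.ncard {x : G | ∃ n ∈ N, x = n * a * n⁻¹} * Nat.card D := by
  classical
  have hr : ∀ x : {x : G | ∃ n ∈ N, x = n * a * n⁻¹}, ∃ n ∈ N, (x : G) = n * a * n⁻¹ :=
    fun x => x.2
  choose r hrN hrx using hr
  let X : ↥N → {x : G | ∃ n ∈ N, x = n * a * n⁻¹} := fun n =>
    ⟨(n : G) * a * (n : G)⁻¹, ⟨n, n.2, rfl⟩⟩
  have hcomm : ∀ n : ↥N, (r (X n))⁻¹ * (n : G) ∈ D := by
    intro n
    rw [hD]
    refine ⟨mul_mem (inv_mem (hrN _)) n.2, ?_⟩
    have h : (n : G) * a * (n : G)⁻¹ = r (X n) * a * (r (X n))⁻¹ := hrx (X n)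
    calc a * ((r (X n))⁻¹ * (n : G))
        = (r (X n))⁻¹ * (r (X n) * a * (r (X n))⁻¹) * n := by group
      _ = (r (X n))⁻¹ * ((n : G) * a * (n : G)⁻¹) * n := by rw [h]
      _ = (r (X n))⁻¹ * (n : G) * a := by group
  let f : ↥N → {x : G | ∃ n ∈ N, x = n * a * n⁻¹} × ↥D := fun n =>
    (X n, ⟨(r (X n))⁻¹ * (n : G), hcomm n⟩)
  have hf : Function.Bijective f := by
    constructor
    · intro n n' h
      have h1 : X n = X n' := congrArg Prod.fst h
      have h2 : (r (X n))⁻¹ * (n : G) = (r (X n'))⁻¹ * (n' : G) :=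
        congrArg (fun p : {x : G | ∃ n ∈ N, x = n * a * n⁻¹} × ↥D => (p.2 : G)) h
      rw [h1] at h2
      exact Subtype.ext (mul_left_cancel h2)
    · rintro ⟨y, d⟩
      have hd := (hD d).mp d.2
      have hx : X ⟨r y * d, mul_mem (hrN y) hd.1⟩ = y := by
        apply Subtype.ext
        show r y * (d : G) * a * (r y * (d : G))⁻¹ = y
        rw [hrx y]
        calc r y * (d : G) * a * (r y * (d : G))⁻¹
            = r y * ((d : G) * a) * (d : G)⁻¹ * (r y)⁻¹ := by group
          _ = r y * (a * (d : G)) * (d : G)⁻¹ * (r y)⁻¹ := by rw [hd.2]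
          _ = r y * a * (r y)⁻¹ := by group
      refine ⟨⟨r y * d, mul_mem (hrN y) hd.1⟩, ?_⟩
      refine Prod.ext hx (Subtype.ext ?_)
      show (r (X ⟨r y * d, mul_mem (hrN y) hd.1⟩))⁻¹ * (r y * (d : G)) = d
      rw [hx, inv_mul_cancel_left]
  rw [Nat.card_congr (Equiv.ofBijective f hf), Nat.card_prod, Nat.card_coe_set_eq]

/-- the class equation for one element -/
theorem conj_class_card (a : G) :
    Nat.card G = Set.ncard {x : G | ∃ g : G, x = g * a * g⁻¹} *
      Nat.card (Subgroup.centralizer ({a} : Set G)) := by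
  have h := conj_orbit_card (⊤ : Subgroup G) (Subgroup.centralizer ({a} : Set G)) a (by
    intro g
    rw [Subgroup.mem_centralizer_iff]
    constructor
    · intro h
      exact ⟨Subgroup.mem_top g, h a rfl⟩
    · rintro ⟨-, h⟩ x hx
      rw [Set.mem_singleton_iff] at hx
      rw [hx]
      exact h)
  rw [Subgroup.card_top] at h
  rw [h]
  congr 2
  ext x
  simp only [Subgroup.mem_top, true_and]

/-- two elements inverted by an involution `a` in a group of odd exponent and congruent modulo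
elements centralised by `a` are equal -/
theorem inv_coset_inj (U X : Subgroup G) (a : G) (ha : a * a = 1) (N : ℕ) (hN : Odd N)
    (hU : ∀ u ∈ U, u ^ N = 1) (hXU : X ≤ U) (hXa : ∀ x ∈ X, a * x = x * a)
    (u u' : G) (hu : u ∈ U) (hi : a * u * a = u⁻¹) (hi' : a * u' * a = u'⁻¹)
    (c c' : G) (hc : c ∈ X) (hc' : c' ∈ X) (h : u * c = u' * c') : u = u' ∧ c = c' := by
  obtain ⟨k, hk⟩ := hN
  have hd : c * c'⁻¹ ∈ X := mul_mem hc (inv_mem hc')
  have hu' : u' = u * (c * c'⁻¹) := by
    rw [← mul_assoc, h, mul_inv_cancel_right]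
  generalize c * c'⁻¹ = d at hd hu'
  have had : a * d * a = d := by rw [hXa d hd, mul_assoc, ha, mul_one]
  have h1 : u⁻¹ * d = d⁻¹ * u⁻¹ := by
    have h0 : a * (u * d) * a = (u * d)⁻¹ := by
      rw [← hu']
      exact hi'
    have e : a * (u * d) * a = (a * u * a) * (a * d * a) := by
      calc a * (u * d) * a = a * u * 1 * d * a := by group
        _ = a * u * (a * a) * d * a := by rw [ha]
        _ = (a * u * a) * (a * d * a) := by group
    rw [e, hi, had, mul_inv_rev] at h0
    exact h0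
  have h2 : d * u = u * d⁻¹ := by
    calc d * u = u * (u⁻¹ * d) * u := by group
      _ = u * (d⁻¹ * u⁻¹) * u := by rw [h1]
      _ = u * d⁻¹ := by group
  have h3 : u * d = d⁻¹ * u := by
    calc u * d = d⁻¹ * (d * u) * d := by group
      _ = d⁻¹ * (u * d⁻¹) * d := by rw [h2]
      _ = d⁻¹ * u := by group
  have h4 : Commute d (u * u) := by
    show d * (u * u) = u * u * d
    calc d * (u * u) = (d * u) * u := by group
      _ = u * d⁻¹ * u := by rw [h2]
      _ = u * (d⁻¹ * u) := by group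
      _ = u * (u * d) := by rw [h3]
      _ = u * u * d := by group
  have h5 : (u * u) ^ k = u⁻¹ := by
    have h0 := hU u hu
    rw [hk, pow_succ, pow_mul, pow_two] at h0
    exact eq_inv_of_mul_eq_one_left h0
  have h6 : Commute d u := by
    have h0 := h4.pow_right k
    rw [h5] at h0
    exact Commute.inv_right_iff.mp h0
  have h7 : d * d = 1 := by
    have h0 : d * u = u * d⁻¹ := h2
    rw [h6.eq] at h0
    have h8 : d = d⁻¹ := mul_left_cancel h0
    calc d * d = d * d⁻¹ := by rw [← h8]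
      _ = 1 := mul_inv_cancel d
  have h9 : d = 1 := by
    have h0 := hU d (hXU hd)
    rw [hk, pow_succ, pow_mul, pow_two, h7, one_pow, one_mul] at h0
    exact h0
  rw [h9, mul_one] at hu'
  refine ⟨hu'.symm, ?_⟩
  rw [← hu'] at h
  exact mul_left_cancel h

/-- the elements of `U` inverted by an involution `a`, times the elements centralised by it -/
theorem inv_count (U X : Subgroup G) [Finite U] (a : G) (ha : a * a = 1) (N : ℕ) (hN : Odd N)
    (hU : ∀ u ∈ U, u ^ N = 1) (hXU : X ≤ U) (hXa : ∀ x ∈ X, a * x = x * a) :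
    Set.ncard {u : G | u ∈ U ∧ a * u * a = u⁻¹} * Nat.card X ≤ Nat.card U := by
  let f : {u : G | u ∈ U ∧ a * u * a = u⁻¹} × ↥X → ↥U := fun p =>
    ⟨(p.1 : G) * (p.2 : G), mul_mem p.1.2.1 (hXU p.2.2)⟩
  have hf : Function.Injective f := by
    rintro ⟨⟨u, hu⟩, ⟨c, hc⟩⟩ ⟨⟨u', hu'⟩, ⟨c', hc'⟩⟩ h
    have h1 : u * c = u' * c' := congrArg Subtype.val h
    obtain ⟨e1, e2⟩ := inv_coset_inj U X a ha N hN hU hXU hXa u u' hu.1 hu.2 hu'.2 c c' hc hc' h1
    subst e1 e2
    rfl
  have h0 := Nat.card_le_card_of_injective f hf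
  rw [Nat.card_prod, Nat.card_coe_set_eq] at h0
  exact h0

/-- a bound for the number of involutions of a group with two cells -/
theorem involution_bound [Finite G] (U H X : Subgroup G) (n a : G) (N : ℕ) (hN : Odd N)
    (hU : ∀ u ∈ U, u ^ N = 1) (hXU : X ≤ U) (hXa : ∀ x ∈ X, a * x = x * a)
    (ha : a * a = 1)
    (cells : ∀ g : G, (∃ u ∈ U, ∃ h ∈ H, g = u * h) ∨
      ∃ u' ∈ U, ∃ h ∈ H, ∃ u ∈ U, g = u' * h * n * u)
    (hUH : ∀ x ∈ U, x ∈ H → x = 1)
    (hHU : ∀ h ∈ H, ∀ u ∈ U, h * u * h⁻¹ ∈ U)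
    (hHa : ∀ h ∈ H, h * h = 1 → h = 1 ∨ h = a)
    (hnH : ∀ h ∈ H, n * h * n ∈ H)
    (hV : ∀ w ∈ U, ∀ h₁ ∈ H, ∀ u ∈ U, ∀ h₂ ∈ H, n * w * n⁻¹ = h₁ * u * h₂ → w = 1)
    (k : ℕ) (hk : k ≤ Nat.card X) :
    Set.ncard {g : G | g * g = 1 ∧ g ≠ 1} * k ≤
      Nat.card U + Nat.card U * Nat.card H * k := by
  have hsub : {g : G | g * g = 1 ∧ g ≠ 1} ⊆
      (fun u : G => u * a) '' {u : G | u ∈ U ∧ a * u * a = u⁻¹} ∪
      (fun p : G × G => p.1⁻¹ * p.2 * n * p.1) '' ((U : Set G) ×ˢ (H : Set G)) := by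
    rintro g ⟨hg2, hg1⟩
    rcases cells g with ⟨u, hu, h, hh, e⟩ | ⟨u', hu', h, hh, u, hu, e⟩
    · left
      have e2 : (u * (h * u * h⁻¹)) * (h * h) = 1 := by
        rw [← hg2, e]
        group
      have hhh : h * h = 1 := by
        apply hUH _ _ (mul_mem hh hh)
        have e3 : h * h = (u * (h * u * h⁻¹))⁻¹ := eq_inv_of_mul_eq_one_right e2
        rw [e3]
        exact inv_mem (mul_mem hu (hHU h hh u hu))
      rcases hHa h hh hhh with h1 | h1
      · exfalso
        apply hg1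
        rw [h1, mul_one] at e
        rw [e] at hg2 ⊢
        obtain ⟨k, hk⟩ := hN
        have h0 := hU u hu
        rw [hk, pow_succ, pow_mul, pow_two, hg2, one_pow, one_mul] at h0
        exact h0
      · rw [h1] at e
        refine ⟨u, ⟨hu, ?_⟩, e.symm⟩
        rw [e] at hg2
        have e3 : u * (a * u * a) = 1 := by
          rw [← hg2]
          group
        exact eq_inv_of_mul_eq_one_right e3
    · right
      have hw : n * (u * u') * n⁻¹ = h⁻¹ * (u * u')⁻¹ * (n * h * n)⁻¹ := by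
        have e2 : u' * h * n * u * (u' * h * n * u) = 1 := by
          rw [← e]
          exact hg2
        have e3 : h * n * (u * u') * (h * n) = (u * u')⁻¹ := by
          calc h * n * (u * u') * (h * n)
              = u'⁻¹ * (u' * h * n * u * (u' * h * n * u)) * u⁻¹ := by group
            _ = (u * u')⁻¹ := by
              rw [e2]
              group
        calc n * (u * u') * n⁻¹
            = h⁻¹ * (h * n * (u * u') * (h * n)) * (n * h * n)⁻¹ := by group
          _ = h⁻¹ * (u * u')⁻¹ * (n * h * n)⁻¹ := by rw [e3]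
      have hw1 : u * u' = 1 := hV _ (mul_mem hu hu') _ (inv_mem hh) _
        (inv_mem (mul_mem hu hu')) _ (inv_mem (hnH h hh)) hw
      have hu'eq : u' = u⁻¹ := eq_inv_of_mul_eq_one_right hw1
      refine ⟨(u, h), Set.mk_mem_prod hu hh, ?_⟩
      show u⁻¹ * h * n * u = g
      rw [e, hu'eq]
  have h1 := Set.ncard_le_ncard hsub (Set.toFinite _)
  have h2 := Set.ncard_union_le ((fun u : G => u * a) '' {u : G | u ∈ U ∧ a * u * a = u⁻¹})
      ((fun p : G × G => p.1⁻¹ * p.2 * n * p.1) '' ((U : Set G) ×ˢ (H : Set G)))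
  have h3 := Set.ncard_image_le (f := fun u : G => u * a)
    (s := {u : G | u ∈ U ∧ a * u * a = u⁻¹}) (Set.toFinite _)
  have h4 := Set.ncard_image_le (f := fun p : G × G => p.1⁻¹ * p.2 * n * p.1)
    (s := (U : Set G) ×ˢ (H : Set G)) (Set.toFinite _)
  have h5 : ((U : Set G) ×ˢ (H : Set G)).ncard = Nat.card U * Nat.card H := by
    rw [Set.ncard_prod]
    rfl
  have h6 := inv_count U X a ha N hN hU hXU hXa
  have h7 : Set.ncard {u : G | u ∈ U ∧ a * u * a = u⁻¹} * k ≤ Nat.card U :=
    le_trans (Nat.mul_le_mul_left _ hk) h6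
  calc Set.ncard {g : G | g * g = 1 ∧ g ≠ 1} * k
      ≤ (Set.ncard {u : G | u ∈ U ∧ a * u * a = u⁻¹} + Nat.card U * Nat.card H) * k := by
        apply Nat.mul_le_mul_right
        omega
    _ = Set.ncard {u : G | u ∈ U ∧ a * u * a = u⁻¹} * k +
          Nat.card U * Nat.card H * k := by ring
    _ ≤ Nat.card U + Nat.card U * Nat.card H * k := by omega

/-- conjugate subgroups have conjugate normalisers -/
theorem conj_mem_normalizer (Q S : Subgroup G) (g : G)
    (hmem : ∀ x : G, x ∈ S ↔ g⁻¹ * x * g ∈ Q) (n : G)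
    (hn : n ∈ Subgroup.normalizer (Q : Set G)) :
    g * n * g⁻¹ ∈ Subgroup.normalizer (S : Set G) := by
  rw [Subgroup.mem_normalizer_iff] at hn ⊢
  intro x
  rw [hmem, hmem, hn (g⁻¹ * x * g)]
  have e : g⁻¹ * (g * n * g⁻¹ * x * (g * n * g⁻¹)⁻¹) * g = n * (g⁻¹ * x * g) * n⁻¹ := by group
  rw [e]

/-- transport of the centraliser and of the order of the normaliser to a conjugate subgroup -/
theorem conj_transport (Q S : Subgroup G) (g : G)
    (hmem : ∀ x : G, x ∈ S ↔ g⁻¹ * x * g ∈ Q)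
    (hc : Subgroup.centralizer (Q : Set G) = Q) :
    Subgroup.centralizer (S : Set G) = S ∧
      Nat.card (Subgroup.normalizer (S : Set G)) = Nat.card (Subgroup.normalizer (Q : Set G)) := by
  have hmem' : ∀ y : G, y ∈ Q ↔ g⁻¹⁻¹ * y * g⁻¹ ∈ S := by
    intro y
    rw [hmem]
    have e : g⁻¹ * (g⁻¹⁻¹ * y * g⁻¹) * g = y := by group
    rw [e]
  constructor
  · ext x
    rw [hmem x, ← hc, Subgroup.mem_centralizer_iff, Subgroup.mem_centralizer_iff]
    constructor
    · intro h q hq
      have h1 : g * q * g⁻¹ ∈ S := by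
        rw [hmem]
        have e : g⁻¹ * (g * q * g⁻¹) * g = q := by group
        rw [e]
        exact hq
      have h2 := h _ (SetLike.mem_coe.mpr h1)
      calc q * (g⁻¹ * x * g) = g⁻¹ * (g * q * g⁻¹ * x) * g := by group
        _ = g⁻¹ * (x * (g * q * g⁻¹)) * g := by rw [h2]
        _ = g⁻¹ * x * g * q := by group
    · intro h s hs
      have h1 : g⁻¹ * s * g ∈ Q := (hmem s).mp hs
      have h2 := h _ (SetLike.mem_coe.mpr h1)
      calc s * x = g * (g⁻¹ * s * g * (g⁻¹ * x * g)) * g⁻¹ := by group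
        _ = g * (g⁻¹ * x * g * (g⁻¹ * s * g)) * g⁻¹ := by rw [h2]
        _ = x * s := by group
  · refine (Nat.card_congr
      { toFun := fun n => ⟨g * (n : G) * g⁻¹, conj_mem_normalizer Q S g hmem n n.2⟩
        invFun := fun n => ⟨g⁻¹ * (n : G) * g⁻¹⁻¹, conj_mem_normalizer S Q g⁻¹ hmem' n n.2⟩
        left_inv := ?_
        right_inv := ?_ }).symm
    · intro n
      apply Subtype.ext
      show g⁻¹ * (g * (n : G) * g⁻¹) * g⁻¹⁻¹ = n
      group
    · intro n
      apply Subtype.ext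
      show g * (g⁻¹ * (n : G) * g⁻¹⁻¹) * g⁻¹ = n
      group

end orbit

section sylow

variable {G : Type*} [Group G] {P : Type*} [Group P]

/-- the image of `Z₂ × V` -/
def sylSub (ι : Multiplicative (ZMod 2) × P →* G) (V : Subgroup P) : Subgroup G :=
  ((⊤ : Subgroup (Multiplicative (ZMod 2))).prod V).map ι

theorem mem_sylSub (ι : Multiplicative (ZMod 2) × P →* G) (V : Subgroup P) (g : G) :
    g ∈ sylSub ι V ↔ ∃ y : Multiplicative (ZMod 2) × P, y.2 ∈ V ∧ ι y = g := by
  unfold sylSub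
  rw [Subgroup.mem_map]
  constructor
  · rintro ⟨y, hy, rfl⟩
    exact ⟨y, (Subgroup.mem_prod.mp hy).2, rfl⟩
  · rintro ⟨y, hy, rfl⟩
    exact ⟨y, Subgroup.mem_prod.mpr ⟨Subgroup.mem_top _, hy⟩, rfl⟩

theorem sylSub_card (ι : Multiplicative (ZMod 2) × P →* G) (hι : Function.Injective ι)
    (V : Subgroup P) : Nat.card (sylSub ι V) = 2 * Nat.card V := by
  unfold sylSub
  rw [Subgroup.card_map_of_injective hι, Nat.card_congr (Subgroup.prodEquiv _ _).toEquiv,
    Nat.card_prod, Subgroup.card_top]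
  congr 1
  rw [Nat.card_eq_fintype_card]
  rfl

variable (a : G) (ι : Multiplicative (ZMod 2) × P →* G) (hι : Function.Injective ι)
  (hr : ∀ g : G, a * g = g * a ↔ g ∈ ι.range)

include hι hr in
/-- the involution is the image of an element with trivial second component -/
theorem exists_preimage_inv (hcen : Subgroup.center P = ⊥) :
    ∃ y : Multiplicative (ZMod 2) × P, y.2 = 1 ∧ ι y = a := by
  obtain ⟨y, hy⟩ := (hr a).mp rfl
  refine ⟨y, ?_, hy⟩
  have hc : y.2 ∈ Subgroup.center P := by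
    rw [Subgroup.mem_center_iff]
    intro p
    have h1 : a * ι (1, p) = ι (1, p) * a := (hr _).mpr ⟨_, rfl⟩
    rw [← hy, ← map_mul, ← map_mul] at h1
    have h2 := hι h1
    have h3 : y.2 * p = p * y.2 := congrArg Prod.snd h2
    exact h3.symm
  rw [hcen, Subgroup.mem_bot] at hc
  exact hc

include hι hr in
theorem inv_mem_sylSub (hcen : Subgroup.center P = ⊥) (V : Subgroup P) : a ∈ sylSub ι V := by
  obtain ⟨y, hy2, hy⟩ := exists_preimage_inv a ι hι hr hcen
  rw [mem_sylSub]
  refine ⟨y, ?_, hy⟩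
  rw [hy2]
  exact one_mem V

include hι hr in
/-- the image of `Z₂ × V` is its own centraliser when `V` is -/
theorem sylSub_centralizer (hcen : Subgroup.center P = ⊥) (V : Subgroup P)
    (hV : Subgroup.centralizer (V : Set P) = V) :
    Subgroup.centralizer (sylSub ι V : Set G) = sylSub ι V := by
  apply le_antisymm
  · intro g hg
    rw [Subgroup.mem_centralizer_iff] at hg
    have h1 : a * g = g * a := hg a (inv_mem_sylSub a ι hι hr hcen V)
    obtain ⟨y, rfl⟩ := (hr g).mp h1
    rw [mem_sylSub]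
    refine ⟨y, ?_, rfl⟩
    rw [← hV, Subgroup.mem_centralizer_iff]
    intro v hv
    have h2 := hg (ι (1, v)) ((mem_sylSub ι V _).mpr ⟨(1, v), hv, rfl⟩)
    rw [← map_mul, ← map_mul] at h2
    exact congrArg Prod.snd (hι h2)
  · intro g hg
    rw [Subgroup.mem_centralizer_iff]
    intro s hs
    obtain ⟨y, hy, rfl⟩ := (mem_sylSub ι V g).mp hg
    obtain ⟨x, hx, rfl⟩ := (mem_sylSub ι V s).mp hs
    rw [← map_mul, ← map_mul]
    congr 1
    have hxy : x.2 * y.2 = y.2 * x.2 := by
      have h0 : y.2 ∈ Subgroup.centralizer (V : Set P) := by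
        rw [hV]
        exact hy
      exact (Subgroup.mem_centralizer_iff.mp h0) x.2 hx
    exact Prod.ext (mul_comm _ _) hxy

include hι hr in
/-- the part of the normaliser of the image of `Z₂ × V` centralising the involution -/
theorem sylSub_norm_inf [Finite G] [Finite P] (V : Subgroup P) :
    Subgroup.normalizer (sylSub ι V : Set G) ⊓ Subgroup.centralizer ({a} : Set G) =
      sylSub ι (Subgroup.normalizer (V : Set P)) := by
  ext g
  rw [Subgroup.mem_inf, mem_sylSub]
  constructor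
  · rintro ⟨hn, hc⟩
    have h1 : a * g = g * a := (Subgroup.mem_centralizer_iff.mp hc) a rfl
    obtain ⟨y, rfl⟩ := (hr g).mp h1
    refine ⟨y, ?_, rfl⟩
    apply mem_normalizer_of_conj_mem
    intro v hv
    have h2 := (Subgroup.mem_normalizer_iff.mp hn (ι (1, v))).mp
      ((mem_sylSub ι V _).mpr ⟨(1, v), hv, rfl⟩)
    rw [← map_inv, ← map_mul, ← map_mul, mem_sylSub] at h2
    obtain ⟨x, hx, hx2⟩ := h2
    have h3 := hι hx2
    have h4 : x.2 = y.2 * v * y.2⁻¹ := congrArg Prod.snd h3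
    rw [← h4]
    exact hx
  · rintro ⟨y, hy, rfl⟩
    refine ⟨?_, ?_⟩
    · apply mem_normalizer_of_conj_mem
      intro s hs
      obtain ⟨x, hx, rfl⟩ := (mem_sylSub ι V s).mp hs
      rw [← map_inv, ← map_mul, ← map_mul, mem_sylSub]
      refine ⟨y * x * y⁻¹, ?_, rfl⟩
      exact (Subgroup.mem_normalizer_iff.mp hy x.2).mp hx
    · rw [Subgroup.mem_centralizer_iff]
      intro s hs
      rw [Set.mem_singleton_iff] at hs
      rw [hs]
      exact (hr _).mpr ⟨y, rfl⟩

/-- membership in a conjugate Sylow subgroup -/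
theorem mem_smul_sylow_iff' {p : ℕ} (c : G) (S : Sylow p G) (x : G) :
    x ∈ ((c • S : Sylow p G) : Subgroup G) ↔ c⁻¹ * x * c ∈ (S : Subgroup G) := by
  rw [Sylow.smul_def, Sylow.pointwise_smul_def, Subgroup.mem_pointwise_smul_iff_inv_smul_mem,
    MulAut.smul_def, MulAut.conj_inv_apply]

include hι hr in
/-- a group in which the centraliser of an involution `a` is `Z₂ × P`, all involutions are
conjugate, and the Sylow `2`-subgroups are elementary abelian of order `8`: the Sylow
`2`-subgroups are self-centralising with normaliser of order `168`, given a self-centralising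
four-group of `P` with normaliser of order `12` -/
theorem sylow_normalizer_card [Finite G] [Finite P] (ha1 : a ≠ 1)
    (hcen : Subgroup.center P = ⊥) (V : Subgroup P)
    (hVc : Subgroup.centralizer (V : Set P) = V) (hV4 : Nat.card V = 4)
    (hVn : Nat.card (Subgroup.normalizer (V : Set P)) = 12)
    (h8 : ∀ S : Sylow 2 G, Nat.card S = 8 ∧ ∀ x ∈ S, x * x = 1)
    (hconj : ∀ g : G, g * g = 1 → g ≠ 1 → ∃ c : G, g = c * a * c⁻¹)
    (S : Sylow 2 G) :
    Subgroup.centralizer ((S : Subgroup G) : Set G) = S ∧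
      Nat.card (Subgroup.normalizer ((S : Subgroup G) : Set G)) = 168 := by
  have : Fact (Nat.Prime 2) := ⟨Nat.prime_two⟩
  have hS0card : Nat.card (sylSub ι V) = 8 := by rw [sylSub_card ι hι V, hV4]
  have hp : IsPGroup 2 (sylSub ι V) := IsPGroup.of_card (n := 3) (by rw [hS0card]; norm_num)
  obtain ⟨Q, hQ⟩ := hp.exists_le_sylow
  have hQeq : sylSub ι V = (Q : Subgroup G) := by
    apply Subgroup.eq_of_le_of_card_ge hQ
    rw [(h8 Q).1, hS0card]
  have hcQ : Subgroup.centralizer ((Q : Subgroup G) : Set G) = Q := by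
    rw [← hQeq]
    exact sylSub_centralizer a ι hι hr hcen V hVc
  have haQ : a ∈ (Q : Subgroup G) := by
    rw [← hQeq]
    exact inv_mem_sylSub a ι hι hr hcen V
  have horb : {x : G | ∃ n ∈ Subgroup.normalizer ((Q : Subgroup G) : Set G), x = n * a * n⁻¹} =
      ((Q : Subgroup G) : Set G) \ {1} := by
    ext x
    constructor
    · rintro ⟨n, hn, rfl⟩
      refine ⟨(Subgroup.mem_normalizer_iff.mp hn a).mp haQ, ?_⟩
      intro h
      rw [Set.mem_singleton_iff] at h
      apply ha1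
      have e : a = n⁻¹ * (n * a * n⁻¹) * n := by group
      rw [e, h]
      group
    · rintro ⟨hx, hx1⟩
      have hx1' : x ≠ 1 := hx1
      obtain ⟨c, hc⟩ := hconj x ((h8 Q).2 x hx) hx1'
      have hxc : x ∈ Subgroup.centralizer ((Q : Subgroup G) : Set G) := by
        rw [hcQ]
        exact hx
      have hcx : c⁻¹ * x * c = a := by
        rw [hc]
        group
      have hyc : c⁻¹ * x * c ∈ Subgroup.centralizer ((Q : Subgroup G) : Set G) := by
        rw [hcx, hcQ]
        exact haQ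
      obtain ⟨n, hn, hn2⟩ := Sylow.conj_eq_normalizer_conj_of_mem_centralizer Q x c hxc hyc
      refine ⟨n, hn, ?_⟩
      rw [hcx] at hn2
      rw [hn2]
      group
  have hD : ∀ g : G, g ∈ sylSub ι (Subgroup.normalizer (V : Set P)) ↔
      g ∈ Subgroup.normalizer ((Q : Subgroup G) : Set G) ∧ a * g = g * a := by
    intro g
    rw [← sylSub_norm_inf a ι hι hr V, Subgroup.mem_inf, hQeq, Subgroup.mem_centralizer_iff]
    constructor
    · rintro ⟨h1, h2⟩
      exact ⟨h1, h2 a rfl⟩
    · rintro ⟨h1, h2⟩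
      refine ⟨h1, ?_⟩
      intro s hs
      rw [Set.mem_singleton_iff] at hs
      rw [hs]
      exact h2
  have hN := conj_orbit_card (Subgroup.normalizer ((Q : Subgroup G) : Set G))
    (sylSub ι (Subgroup.normalizer (V : Set P))) a hD
  have hQc : ((Q : Subgroup G) : Set G).ncard = 8 := by
    rw [← (h8 Q).1]
    exact (Nat.card_coe_set_eq ((Q : Subgroup G) : Set G)).symm
  rw [horb, sylSub_card ι hι, hVn, Set.ncard_sdiff_singleton_of_mem (one_mem (Q : Subgroup G)),
    hQc] at hN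
  obtain ⟨g, hg⟩ := MulAction.exists_smul_eq G Q S
  have hmem : ∀ x : G, x ∈ (S : Subgroup G) ↔ g⁻¹ * x * g ∈ (Q : Subgroup G) := by
    intro x
    rw [← hg]
    exact mem_smul_sylow_iff' g Q x
  obtain ⟨h1, h2⟩ := conj_transport (Q : Subgroup G) (S : Subgroup G) g hmem hcQ
  exact ⟨h1, by rw [h2, hN]⟩

end sylow

end Cfsg.Agent.Lib.Helper17
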