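import Cfsg.Agent.Lib.Helper17.ReeD2

set_option autoImplicit false

/-!
# The small Ree groups: one class of involutions, and the Sylow `2`-normaliser
-/

namespace Cfsg.Agent.Lib.Helper17

open Cfsg Cfsg.Lie

open Cfsg.Agent.Lib.Helper18 (g2mem g2x coe_g2x ReeTw g2n1 g2n1_mem_tw g2_UH_inj
  g2_mem_diag_of_conj ree_bot diagonalSubgroup_le_normalizer_posUnipotent
  monomialSubgroup_le_normalizer g2n1_mem_monomial)

section ree

variable {K : Type*} [Field K] [Fintype K] [CharP K 3] {m : ℕ}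

/-- `U¹` as a subgroup of the Ree group -/
def reeUs (K : Type*) [Field K] (m : ℕ) : Subgroup ↥(twistedG2 K (3 ^ m)) :=
  (chevG2.posUnipotent K ⊓ twistedG2 K (3 ^ m)).subgroupOf (twistedG2 K (3 ^ m))

/-- `H¹` as a subgroup of the Ree group -/
def reeHs (K : Type*) [Field K] (m : ℕ) : Subgroup ↥(twistedG2 K (3 ^ m)) :=
  (chevG2.diagonalSubgroup K ⊓ twistedG2 K (3 ^ m)).subgroupOf (twistedG2 K (3 ^ m))

omit [Fintype K] [CharP K 3] in
theorem mem_reeUs (x : ↥(twistedG2 K (3 ^ m))) :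
    x ∈ reeUs K m ↔ (x : GL chevG2.Idx K) ∈ chevG2.posUnipotent K := by
  unfold reeUs
  rw [Subgroup.mem_subgroupOf, Subgroup.mem_inf]
  exact ⟨fun h => h.1, fun h => ⟨h, x.2⟩⟩

omit [Fintype K] [CharP K 3] in
theorem mem_reeHs (x : ↥(twistedG2 K (3 ^ m))) :
    x ∈ reeHs K m ↔ (x : GL chevG2.Idx K) ∈ chevG2.diagonalSubgroup K := by
  unfold reeHs
  rw [Subgroup.mem_subgroupOf, Subgroup.mem_inf]
  exact ⟨fun h => h.1, fun h => ⟨h, x.2⟩⟩

theorem reeUs_card (T : ReeTw K m) (hK : Fintype.card K = 3 ^ (2 * m + 1)) :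
    Nat.card ↥(reeUs K m) = (3 ^ (2 * m + 1)) ^ 3 := by
  unfold reeUs
  rw [Nat.card_congr (Subgroup.subgroupOfEquivOfLe inf_le_right).toEquiv, ree_unip_card T hK]

theorem reeHs_card (T : ReeTw K m) (hK : Fintype.card K = 3 ^ (2 * m + 1)) :
    Nat.card ↥(reeHs K m) = 3 ^ (2 * m + 1) - 1 := by
  unfold reeHs
  rw [Nat.card_congr (Subgroup.subgroupOfEquivOfLe inf_le_right).toEquiv, ree_diag_card T hK]

/-- the Weyl element of the Ree group -/
def reeNs (K : Type*) [Field K] [CharP K 3] (m : ℕ) : ↥(twistedG2 K (3 ^ m)) :=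
  ⟨((g2n1 : ↥(chevG2.group K)) : GL chevG2.Idx K), g2n1_mem_tw (3 ^ m) (three_pow_ne_zero m)⟩

/-- the involution of `H¹` -/
def reeAs (K : Type*) [Field K] [CharP K 3] (m : ℕ) : ↥(twistedG2 K (3 ^ m)) :=
  ⟨((g2t (-1 : K) (-1) : ↥(chevG2.group K)) : GL chevG2.Idx K), ree_hm1_mem (3 ^ m) ree_odd_e⟩

omit [Fintype K] in
theorem reeAs_sq : reeAs K m * reeAs K m = 1 := by
  apply Subtype.ext
  exact congrArg (fun g : ↥(chevG2.group K) => (g : GL chevG2.Idx K)) (reeInv_sq (K := K))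

theorem reeAs_ne_one : reeAs K m ≠ 1 := by
  intro h
  have hm1 : (-1 : K) ≠ 0 := neg_ne_zero.mpr one_ne_zero
  have h1 : ((g2t (-1 : K) (-1) : ↥(chevG2.group K)) : GL chevG2.Idx K) = 1 :=
    congrArg Subtype.val h
  have h2 : g2t (-1 : K) (-1) = g2t 1 1 := by
    rw [g2t_one]
    exact Subtype.ext h1
  have h3 := (g2t_inj _ _ _ _ hm1 hm1 one_ne_zero one_ne_zero h2).1
  apply two_ne_zero_char3 (K := K)
  linear_combination -h3

omit [Fintype K] in
theorem reeNs_sq : reeNs K m * reeNs K m = 1 := by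
  apply Subtype.ext
  exact congrArg (fun g : ↥(chevG2.group K) => (g : GL chevG2.Idx K)) (g2n1_sq (K := K))

omit [Fintype K] in
theorem reeAs_mem_diag :
    ((reeAs K m : ↥(twistedG2 K (3 ^ m))) : GL chevG2.Idx K) ∈ chevG2.diagonalSubgroup K := by
  have hm1 : (-1 : K) ≠ 0 := neg_ne_zero.mpr one_ne_zero
  exact g2t_mem_diag _ _ hm1 hm1

omit [Fintype K] [CharP K 3] in
theorem reeXg_mem_Us (u : K) : reeXg m u ∈ reeUs K m := by
  rw [mem_reeUs]
  exact reeX_mem_pos (3 ^ m) (three_pow_ne_zero m) u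

omit [Fintype K] in
theorem reeAs_comm_X (u : K) : reeAs K m * reeXg m u = reeXg m u * reeAs K m := by
  apply Subtype.ext
  exact congrArg (fun g : ↥(chevG2.group K) => (g : GL chevG2.Idx K)) (reeInv_comm_X (3 ^ m) u)

omit [Fintype K] in
theorem reeXg_injective : Function.Injective (reeXg (K := K) m) := by
  intro u u' h
  have h0 : reeXg m (0 : K) = 1 := by
    have h1 := reeXg_add m (0 : K) 0
    rw [add_zero] at h1
    have h2 : reeXg m (0 : K) * reeXg m (0 : K) = reeXg m (0 : K) * 1 := by rw [mul_one]; exact h1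
    exact mul_left_cancel h2
  have h1 : reeXg m (u - u') = 1 := by
    rw [sub_eq_add_neg, ← reeXg_add, h, reeXg_add, add_neg_cancel, h0]
  have h3 : ((reeXg m (u - u') : ↥(twistedG2 K (3 ^ m))) : GL chevG2.Idx K) = 1 :=
    congrArg Subtype.val h1
  have h2 : reeX (3 ^ m) (u - u') = 1 := by
    apply Subtype.ext
    rw [← coe_reeXg, h3]
    rfl
  exact sub_eq_zero.mp (reeX_eq_one (3 ^ m) (three_pow_ne_zero m) _ h2)

/-- all involutions of the Ree group are conjugate to the involution of `H¹` -/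
theorem ree_inv_conj (T : ReeTw K m) (hK : Fintype.card K = 3 ^ (2 * m + 1))
    (e : ↥(Subgroup.centralizer ({reeAs K m} : Set ↥(twistedG2 K (3 ^ m)))) ≃*
      Multiplicative (ZMod 2) × Matrix.ProjectiveSpecialLinearGroup (Fin 2) K)
    (g : ↥(twistedG2 K (3 ^ m))) (hg2 : g * g = 1) (hg1 : g ≠ 1) :
    ∃ c : ↥(twistedG2 K (3 ^ m)), g = c * reeAs K m * c⁻¹ := by
  classical
  have B := ree_bot T hK
  have hUB : chevG2.posUnipotent K ≤ chevG2.borelSubgroup K := le_sup_left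
  have hHB : chevG2.diagonalSubgroup K ≤ chevG2.borelSubgroup K := le_sup_right
  have hnorm : ∀ h ∈ chevG2.diagonalSubgroup K,
      ((g2n1 : ↥(chevG2.group K)) : GL chevG2.Idx K)⁻¹ * h *
        ((g2n1 : ↥(chevG2.group K)) : GL chevG2.Idx K) ∈ chevG2.diagonalSubgroup K := by
    intro h hh
    have h1 := (Subgroup.mem_set_normalizer_iff.mp
      (monomialSubgroup_le_normalizer chevG2 g2mem (g2n1_mem_monomial (K := K))))
      (((g2n1 : ↥(chevG2.group K)) : GL chevG2.Idx K)⁻¹ * h *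
        ((g2n1 : ↥(chevG2.group K)) : GL chevG2.Idx K))
    rw [SetLike.mem_coe, SetLike.mem_coe] at h1
    rw [h1]
    have e : ((g2n1 : ↥(chevG2.group K)) : GL chevG2.Idx K) *
        (((g2n1 : ↥(chevG2.group K)) : GL chevG2.Idx K)⁻¹ * h *
        ((g2n1 : ↥(chevG2.group K)) : GL chevG2.Idx K)) *
        ((g2n1 : ↥(chevG2.group K)) : GL chevG2.Idx K)⁻¹ = h := by group
    rw [e]
    exact hh
  have hn_inv : (reeNs K m)⁻¹ = reeNs K m := inv_eq_of_mul_eq_one_right reeNs_sq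
  have hUHtriv : ∀ x : GL chevG2.Idx K, x ∈ chevG2.posUnipotent K →
      x ∈ chevG2.diagonalSubgroup K → x = 1 := by
    intro x hxU hxH
    exact (g2_UH_inj x 1 1 x hxU (one_mem _) (one_mem _) hxH (by rw [mul_one, one_mul])).1
  have h_U : ∀ u ∈ reeUs K m, u ^ ((3 ^ (2 * m + 1)) ^ 3) = 1 := by
    intro u hu
    have h1 : (⟨u, hu⟩ : ↥(reeUs K m)) ^ Nat.card ↥(reeUs K m) = 1 := pow_card_eq_one'
    rw [reeUs_card T hK] at h1
    exact congrArg Subtype.val h1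
  have h_Xa : ∀ x ∈ reeUs K m ⊓
      Subgroup.centralizer ({reeAs K m} : Set ↥(twistedG2 K (3 ^ m))),
      reeAs K m * x = x * reeAs K m := by
    intro x hx
    exact Subgroup.mem_centralizer_iff.mp (Subgroup.mem_inf.mp hx).2 _ rfl
  have h_cells : ∀ g : ↥(twistedG2 K (3 ^ m)),
      (∃ u ∈ reeUs K m, ∃ h ∈ reeHs K m, g = u * h) ∨
      ∃ u' ∈ reeUs K m, ∃ h ∈ reeHs K m, ∃ u ∈ reeUs K m, g = u' * h * reeNs K m * u := by
    intro g
    rcases B.cells hK (g : GL chevG2.Idx K) g.2 with ⟨u', hu', h, hh, e⟩ |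
      ⟨u', hu', h, hh, u, hu, e⟩
    · left
      exact ⟨⟨u', hu'.2⟩, (mem_reeUs _).mpr hu'.1, ⟨h, hh.2⟩, (mem_reeHs _).mpr hh.1,
        Subtype.ext e⟩
    · right
      exact ⟨⟨u', hu'.2⟩, (mem_reeUs _).mpr hu'.1, ⟨h, hh.2⟩, (mem_reeHs _).mpr hh.1,
        ⟨u, hu.2⟩, (mem_reeUs _).mpr hu.1, Subtype.ext e⟩
  have h_UH : ∀ x ∈ reeUs K m, x ∈ reeHs K m → x = 1 := by
    intro x hxU hxH
    exact Subtype.ext (hUHtriv _ ((mem_reeUs x).mp hxU) ((mem_reeHs x).mp hxH))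
  have h_HU : ∀ h ∈ reeHs K m, ∀ u ∈ reeUs K m, h * u * h⁻¹ ∈ reeUs K m := by
    intro h hh u hu
    rw [mem_reeUs]
    exact (Subgroup.mem_set_normalizer_iff.mp
      (diagonalSubgroup_le_normalizer_posUnipotent chevG2 g2mem ((mem_reeHs h).mp hh))
      (u : GL chevG2.Idx K)).mp ((mem_reeUs u).mp hu)
  have h_Ha : ∀ h ∈ reeHs K m, h * h = 1 → h = 1 ∨ h = reeAs K m := by
    intro h hh h2
    by_cases h1 : h = 1
    · exact Or.inl h1
    · right
      apply Subtype.ext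
      exact ree_inv_eq T hK (h : GL chevG2.Idx K) h.2 ((mem_reeHs h).mp hh)
        (fun h0 => h1 (Subtype.ext h0)) (congrArg Subtype.val h2)
  have h_nH : ∀ h ∈ reeHs K m, reeNs K m * h * reeNs K m ∈ reeHs K m := by
    intro h hh
    have e : reeNs K m * h * reeNs K m = (reeNs K m)⁻¹ * h * reeNs K m := by rw [hn_inv]
    rw [e, mem_reeHs]
    exact hnorm _ ((mem_reeHs h).mp hh)
  have h_V : ∀ w ∈ reeUs K m, ∀ h₁ ∈ reeHs K m, ∀ u ∈ reeUs K m, ∀ h₂ ∈ reeHs K m,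
      reeNs K m * w * (reeNs K m)⁻¹ = h₁ * u * h₂ → w = 1 := by
    intro w hw h₁ hh₁ u hu h₂ hh₂ e
    have e' : ((g2n1 : ↥(chevG2.group K)) : GL chevG2.Idx K) * (w : GL chevG2.Idx K) *
        ((g2n1 : ↥(chevG2.group K)) : GL chevG2.Idx K)⁻¹ =
        (h₁ : GL chevG2.Idx K) * (u : GL chevG2.Idx K) * (h₂ : GL chevG2.Idx K) :=
      congrArg Subtype.val e
    have hsB : ((g2n1 : ↥(chevG2.group K)) : GL chevG2.Idx K) * (w : GL chevG2.Idx K) *
        ((g2n1 : ↥(chevG2.group K)) : GL chevG2.Idx K)⁻¹ ∈ chevG2.borelSubgroup K := by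
      rw [e']
      exact mul_mem (mul_mem (hHB ((mem_reeHs h₁).mp hh₁)) (hUB ((mem_reeUs u).mp hu)))
        (hHB ((mem_reeHs h₂).mp hh₂))
    have e2 : ((g2n1 : ↥(chevG2.group K)) : GL chevG2.Idx K)⁻¹ *
        (((g2n1 : ↥(chevG2.group K)) : GL chevG2.Idx K) * (w : GL chevG2.Idx K) *
        ((g2n1 : ↥(chevG2.group K)) : GL chevG2.Idx K)⁻¹) *
        ((g2n1 : ↥(chevG2.group K)) : GL chevG2.Idx K) = (w : GL chevG2.Idx K) := by group
    have hs' : ((g2n1 : ↥(chevG2.group K)) : GL chevG2.Idx K)⁻¹ *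
        (((g2n1 : ↥(chevG2.group K)) : GL chevG2.Idx K) * (w : GL chevG2.Idx K) *
        ((g2n1 : ↥(chevG2.group K)) : GL chevG2.Idx K)⁻¹) *
        ((g2n1 : ↥(chevG2.group K)) : GL chevG2.Idx K) ∈ chevG2.borelSubgroup K := by
      rw [e2]
      exact hUB ((mem_reeUs w).mp hw)
    have hsH := g2_mem_diag_of_conj _ hsB hs'
    have hwH := hnorm _ hsH
    rw [e2] at hwH
    exact Subtype.ext (hUHtriv _ ((mem_reeUs w).mp hw) hwH)
  have h_k : 3 ^ (2 * m + 1) ≤ Nat.card ↥(reeUs K m ⊓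
      Subgroup.centralizer ({reeAs K m} : Set ↥(twistedG2 K (3 ^ m)))) := by
    let f : K → ↥(reeUs K m ⊓
        Subgroup.centralizer ({reeAs K m} : Set ↥(twistedG2 K (3 ^ m)))) := fun u =>
      ⟨reeXg m u, Subgroup.mem_inf.mpr ⟨reeXg_mem_Us u, Subgroup.mem_centralizer_iff.mpr
        (fun y hy => by rw [Set.mem_singleton_iff.mp hy]; exact reeAs_comm_X u)⟩⟩
    have hf : Function.Injective f := by
      intro u u' h
      have h1 : reeXg m u = reeXg m u' := congrArg Subtype.val h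
      exact reeXg_injective h1
    have h0 := Nat.card_le_card_of_injective f hf
    rw [Nat.card_eq_fintype_card, hK] at h0
    exact h0
  have hb := involution_bound (reeUs K m) (reeHs K m)
    (reeUs K m ⊓ Subgroup.centralizer ({reeAs K m} : Set ↥(twistedG2 K (3 ^ m))))
    (reeNs K m) (reeAs K m) ((3 ^ (2 * m + 1)) ^ 3) (Odd.pow (Odd.pow (by decide)))
    h_U inf_le_left h_Xa reeAs_sq h_cells h_UH h_HU h_Ha h_nH h_V (3 ^ (2 * m + 1)) h_k
  rw [reeUs_card T hK, reeHs_card T hK] at hb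
  have hcl := conj_class_card (reeAs K m)
  have hcard : Nat.card ↥(twistedG2 K (3 ^ m)) =
      (3 ^ (2 * m + 1)) ^ 3 * (3 ^ (2 * m + 1) - 1) * ((3 ^ (2 * m + 1)) ^ 3 + 1) :=
    B.card_tw hK (ree_unip_card T hK) (ree_diag_card T hK)
  obtain ⟨j, hj⟩ := three_pow_mod8 m
  have hsub : 8 * j + 3 - 1 = 8 * j + 2 := by omega
  have hC : Nat.card ↥(Subgroup.centralizer ({reeAs K m} : Set ↥(twistedG2 K (3 ^ m)))) =
      (8 * j + 3) * ((8 * j + 2) * (8 * j + 4)) := by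
    have h1 : Nat.card ↥(Subgroup.centralizer ({reeAs K m} : Set ↥(twistedG2 K (3 ^ m)))) =
        2 * Nat.card (Matrix.ProjectiveSpecialLinearGroup (Fin 2) K) := by
      rw [Nat.card_congr e.toEquiv, Nat.card_prod]
      congr 1
      rw [Nat.card_eq_fintype_card]
      rfl
    have h2 := Cfsg.Agent.Lib.Helper41.card_psl2_mul_gcd (F := K)
    rw [hK, hj, hsub] at h2
    have h3 : Nat.gcd 2 (8 * j + 2) = 2 :=
      Nat.gcd_eq_left (⟨4 * j + 1, by ring⟩ : 2 ∣ 8 * j + 2)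
    rw [h3] at h2
    have h4 : (8 * j + 3) ^ 2 - 1 = (8 * j + 2) * (8 * j + 4) := by
      have h5 : (8 * j + 3) ^ 2 = (8 * j + 2) * (8 * j + 4) + 1 := by ring
      rw [h5, Nat.add_sub_cancel]
    rw [h4] at h2
    rw [h1, mul_comm, h2]
  rw [hcard, hC, hj, hsub] at hcl
  rw [hj, hsub] at hb
  have hc : Set.ncard {x : ↥(twistedG2 K (3 ^ m)) |
      ∃ c : ↥(twistedG2 K (3 ^ m)), x = c * reeAs K m * c⁻¹} =
      (8 * j + 3) ^ 2 * ((8 * j + 3) * (8 * j + 2) + 1) := by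
    have h1 : (8 * j + 3) ^ 3 * (8 * j + 2) * ((8 * j + 3) ^ 3 + 1) =
        (8 * j + 3) ^ 2 * ((8 * j + 3) * (8 * j + 2) + 1) *
          ((8 * j + 3) * ((8 * j + 2) * (8 * j + 4))) := by ring
    rw [h1] at hcl
    exact (Nat.eq_of_mul_eq_mul_right (by positivity) hcl).symm
  have hle : Set.ncard {g : ↥(twistedG2 K (3 ^ m)) | g * g = 1 ∧ g ≠ 1} ≤
      Set.ncard {x : ↥(twistedG2 K (3 ^ m)) |
        ∃ c : ↥(twistedG2 K (3 ^ m)), x = c * reeAs K m * c⁻¹} := by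
    rw [hc]
    have h1 : (8 * j + 3) ^ 3 + (8 * j + 3) ^ 3 * (8 * j + 2) * (8 * j + 3) =
        (8 * j + 3) ^ 2 * ((8 * j + 3) * (8 * j + 2) + 1) * (8 * j + 3) := by ring
    rw [h1] at hb
    exact Nat.le_of_mul_le_mul_right hb (by positivity)
  have hsubset : {x : ↥(twistedG2 K (3 ^ m)) |
      ∃ c : ↥(twistedG2 K (3 ^ m)), x = c * reeAs K m * c⁻¹} ⊆
      {g : ↥(twistedG2 K (3 ^ m)) | g * g = 1 ∧ g ≠ 1} := by
    rintro x ⟨c, rfl⟩
    refine ⟨?_, ?_⟩
    · calc c * reeAs K m * c⁻¹ * (c * reeAs K m * c⁻¹)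
          = c * (reeAs K m * reeAs K m) * c⁻¹ := by group
        _ = 1 := by
          rw [reeAs_sq]
          group
    · intro h
      apply reeAs_ne_one (K := K) (m := m)
      have e1 : reeAs K m = c⁻¹ * (c * reeAs K m * c⁻¹) * c := by group
      rw [e1, h]
      group
  have heq := Set.eq_of_subset_of_ncard_le hsubset hle (Set.toFinite _)
  have hgm : g ∈ {g : ↥(twistedG2 K (3 ^ m)) | g * g = 1 ∧ g ≠ 1} := ⟨hg2, hg1⟩
  rw [← heq] at hgm
  exact hgm

/-- the Sylow `2`-subgroups of the Ree groups are self-centralising, with normaliser of order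
`168` -/
theorem ree_sylow_normalizer (T : ReeTw K m) (hK : Fintype.card K = 3 ^ (2 * m + 1))
    (S : Sylow 2 ↥(twistedG2 K (3 ^ m))) :
    Subgroup.centralizer
        ((S : Subgroup ↥(twistedG2 K (3 ^ m))) : Set ↥(twistedG2 K (3 ^ m))) = S ∧
      Nat.card (Subgroup.normalizer
        ((S : Subgroup ↥(twistedG2 K (3 ^ m))) : Set ↥(twistedG2 K (3 ^ m)))) = 168 := by
  obtain ⟨e⟩ := ree_cent_iso T hK (reeAs K m) reeAs_mem_diag reeAs_ne_one reeAs_sq
  let ι : Multiplicative (ZMod 2) × Matrix.ProjectiveSpecialLinearGroup (Fin 2) K →*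
      ↥(twistedG2 K (3 ^ m)) :=
    (Subgroup.centralizer ({reeAs K m} : Set ↥(twistedG2 K (3 ^ m)))).subtype.comp
      e.symm.toMonoidHom
  have hι : Function.Injective ι := by
    intro x y h
    exact e.symm.injective (Subtype.ext h)
  have hr : ∀ g : ↥(twistedG2 K (3 ^ m)), reeAs K m * g = g * reeAs K m ↔ g ∈ ι.range := by
    intro g
    constructor
    · intro h
      have hg : g ∈ Subgroup.centralizer ({reeAs K m} : Set ↥(twistedG2 K (3 ^ m))) :=
        Subgroup.mem_centralizer_iff.mpr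
          (fun y hy => by rw [Set.mem_singleton_iff.mp hy]; exact h)
      refine ⟨e ⟨g, hg⟩, ?_⟩
      show ((e.symm (e ⟨g, hg⟩) :
        ↥(Subgroup.centralizer ({reeAs K m} : Set ↥(twistedG2 K (3 ^ m))))) :
          ↥(twistedG2 K (3 ^ m))) = g
      rw [e.symm_apply_apply]
    · rintro ⟨y, rfl⟩
      exact Subgroup.mem_centralizer_iff.mp (e.symm y).2 _ rfl
  exact sylow_normalizer_card (reeAs K m) ι hι hr reeAs_ne_one
    (psl2_center_bot two_ne_zero_char3) (psl2V K) (psl2V_centralizer K) (psl2V_card K)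
    (psl2V_normalizer_card K (two_not_square hK))
    (fun S => ree_sylow_two T hK (reeAs K m) e S)
    (fun g hg2 hg1 => ree_inv_conj T hK e g hg2 hg1) S

end ree

end Cfsg.Agent.Lib.Helper17
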