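import Cfsg.Agent.Lib.Helper17.ReeD2

set_option autoImplicit false

/-!
# Centralisers of elements of odd prime order, abstractly

A subgroup `W` with an abelian subgroup `A` containing a four-group whose involutions have
centraliser `A` in `W`, and without elements of order `3`, is `A`.
-/

namespace Cfsg.Agent.Lib.Helper17

section klein

variable {G : Type*} [Group G]

theorem z2_cases (ε δ : Multiplicative (ZMod 2)) (hδ : δ ≠ 1) : ε = 1 ∨ ε = δ := by
  revert ε δ
  decide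

theorem mem_cent_singleton (w x : G) :
    w ∈ Subgroup.centralizer ({x} : Set G) ↔ w * x = x * w := by
  rw [Subgroup.mem_centralizer_iff]
  constructor
  · intro h
    exact (h x rfl).symm
  · intro h s hs
    rw [Set.mem_singleton_iff] at hs
    rw [hs]
    exact h.symm

/-- powers of a product `u h` with `h` in a subgroup normalising `U` -/
theorem pow_mul_mem (U H : Subgroup G) (hH : ∀ g ∈ H, ∀ v ∈ U, g * v * g⁻¹ ∈ U) (u h : G)
    (hu : u ∈ U) (hh : h ∈ H) (k : ℕ) : ∃ v ∈ U, (u * h) ^ k = v * h ^ k := by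
  induction k with
  | zero => exact ⟨1, one_mem U, by simp⟩
  | succ k ih =>
    obtain ⟨v, hv, e⟩ := ih
    refine ⟨v * (h ^ k * u * (h ^ k)⁻¹), mul_mem hv (hH _ (pow_mem hh k) u hu), ?_⟩
    rw [pow_succ, e, pow_succ]
    group

/-- an element of `p`-power order is conjugate into a subgroup of index prime to `p` -/
theorem exists_conj_mem_of_card [Finite G] (H : Subgroup G) (p : ℕ) [Fact p.Prime] (c : ℕ)
    (hcard : Nat.card G = Nat.card H * c) (hc : ¬ p ∣ c) (y : G) (k : ℕ) (hy : y ^ p ^ k = 1) :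
    ∃ g : G, g * y * g⁻¹ ∈ H := by
  have hp : p.Prime := Fact.out
  obtain ⟨P⟩ : Nonempty (Sylow p ↥H) := inferInstance
  have hH0 : Nat.card H ≠ 0 := Nat.card_pos.ne'
  have hc0 : c ≠ 0 := by
    rintro rfl
    rw [mul_zero] at hcard
    exact Nat.card_pos.ne' hcard
  have hfac : (Nat.card G).factorization p = (Nat.card H).factorization p := by
    rw [hcard, Nat.factorization_mul hH0 hc0, Finsupp.add_apply,
      Nat.factorization_eq_zero_of_not_dvd hc, add_zero]
  have hPc : Nat.card ((P : Subgroup ↥H).map H.subtype) = p ^ (Nat.card G).factorization p := by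
    rw [Subgroup.card_map_of_injective H.subtype_injective, hfac]
    exact P.card_eq_multiplicity
  have hyP : IsPGroup p (Subgroup.zpowers y) := by
    obtain ⟨j, -, hj⟩ := (Nat.dvd_prime_pow hp).mp (orderOf_dvd_of_pow_eq_one hy)
    exact IsPGroup.of_card (n := j) (by rw [Nat.card_zpowers, hj])
  obtain ⟨R, hR⟩ := hyP.exists_le_sylow
  obtain ⟨g, hg⟩ := MulAction.exists_smul_eq G R (Sylow.ofCard _ hPc)
  refine ⟨g, ?_⟩
  have h1 : g * y * g⁻¹ ∈ ((g • R : Sylow p G) : Subgroup G) := by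
    rw [mem_smul_sylow_iff']
    have e : g⁻¹ * (g * y * g⁻¹) * g = y := by group
    rw [e]
    exact hR (Subgroup.mem_zpowers y)
  rw [hg, Sylow.coe_ofCard] at h1
  obtain ⟨z, -, hz⟩ := Subgroup.mem_map.mp h1
  rw [← hz]
  exact z.2

theorem card_eq_of_conj (D D' : Subgroup G) (k : G)
    (h : ∀ w : G, w ∈ D ↔ k⁻¹ * w * k ∈ D') : Nat.card D = Nat.card D' := by
  refine Nat.card_congr
    { toFun := fun w => ⟨k⁻¹ * (w : G) * k, (h w).mp w.2⟩
      invFun := fun w => ⟨k * (w : G) * k⁻¹, (h _).mpr (by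
        have e : k⁻¹ * (k * (w : G) * k⁻¹) * k = w := by group
        rw [e]
        exact w.2)⟩
      left_inv := ?_
      right_inv := ?_ }
  · intro w
    apply Subtype.ext
    show k * (k⁻¹ * (w : G) * k) * k⁻¹ = w
    group
  · intro w
    apply Subtype.ext
    show k⁻¹ * (k * (w : G) * k⁻¹) * k = w
    group

theorem conj_comm_iff (w k a : G) :
    w * (k * a * k⁻¹) = k * a * k⁻¹ * w ↔ (k⁻¹ * w * k) * a = a * (k⁻¹ * w * k) := by
  constructor
  · intro h
    calc k⁻¹ * w * k * a = k⁻¹ * (w * (k * a * k⁻¹)) * k := by group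
      _ = k⁻¹ * (k * a * k⁻¹ * w) * k := by rw [h]
      _ = a * (k⁻¹ * w * k) := by group
  · intro h
    calc w * (k * a * k⁻¹) = k * (k⁻¹ * w * k * a) * k⁻¹ := by group
      _ = k * (a * (k⁻¹ * w * k)) * k⁻¹ := by rw [h]
      _ = k * a * k⁻¹ * w := by group

/-- no element of `W` fuses two of the three involutions of `A` -/
theorem klein_no_fusion [Finite G] (W A : Subgroup G) (hAW : A ≤ W)
    (hcomm : ∀ x ∈ A, ∀ y ∈ A, x * y = y * x)
    (hcent : ∀ t ∈ A, t * t = 1 → t ≠ 1 → ∀ w ∈ W, w * t = t * w → w ∈ A)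
    (h3 : ∀ w ∈ W, w ^ 3 = 1 → w = 1)
    (t t' t'' : G) (ht : t ∈ A) (ht' : t' ∈ A) (ht'' : t'' ∈ A)
    (h2 : t * t = 1) (h2' : t' * t' = 1) (h2'' : t'' * t'' = 1)
    (h1 : t ≠ 1) (h1' : t' ≠ 1) (h1'' : t'' ≠ 1)
    (hne : t ≠ t') (hne' : t ≠ t'') (hne'' : t' ≠ t'')
    (hcov : ∀ s ∈ A, s * s = 1 → s ≠ 1 → s = t ∨ s = t' ∨ s = t'')
    (w : G) (hw : w ∈ W) (e : w * t * w⁻¹ = t') : False := by
  have hφ : ∀ s ∈ A, s * s = 1 → s ≠ 1 →
      (w * s * w⁻¹ ∈ A ∧ (w * s * w⁻¹) * (w * s * w⁻¹) = 1 ∧ w * s * w⁻¹ ≠ 1) := by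
    intro s hs hs2 hs1
    refine ⟨?_, ?_, ?_⟩
    · apply hcent t' ht' h2' h1' _ (mul_mem (mul_mem hw (hAW hs)) (inv_mem hw))
      rw [← e]
      calc w * s * w⁻¹ * (w * t * w⁻¹) = w * (s * t) * w⁻¹ := by group
        _ = w * (t * s) * w⁻¹ := by rw [hcomm s hs t ht]
        _ = w * t * w⁻¹ * (w * s * w⁻¹) := by group
    · calc w * s * w⁻¹ * (w * s * w⁻¹) = w * (s * s) * w⁻¹ := by group
        _ = 1 := by
          rw [hs2]
          group
    · intro h
      apply hs1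
      calc s = w⁻¹ * (w * s * w⁻¹) * w := by group
        _ = 1 := by
          rw [h]
          group
  have hinj : ∀ s s' : G, w * s * w⁻¹ = w * s' * w⁻¹ → s = s' := fun s s' h =>
    mul_left_cancel (mul_right_cancel h)
  have hfix : ∀ s ∈ A, s * s = 1 → s ≠ 1 → w * s * w⁻¹ = s → w ∈ A := by
    intro s hs hs2 hs1 h
    apply hcent s hs hs2 hs1 w hw
    calc w * s = (w * s * w⁻¹) * w := by group
      _ = s * w := by rw [h]
  have hwA : w ∉ A := by
    intro h
    apply hne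
    rw [← e]
    calc t = t * w * w⁻¹ := by group
      _ = w * t * w⁻¹ := by rw [hcomm t ht w h]
  obtain ⟨m1, m2, m3⟩ := hφ t' ht' h2' h1'
  obtain ⟨n1, n2, n3⟩ := hφ t'' ht'' h2'' h1''
  rcases hcov _ m1 m2 m3 with c1 | c1 | c1
  · rcases hcov _ n1 n2 n3 with c2 | c2 | c2
    · exact hne'' (hinj _ _ (c1.trans c2.symm))
    · exact hne' (hinj _ _ (e.trans c2.symm))
    · exact hwA (hfix t'' ht'' h2'' h1'' c2)
  · exact hne (hinj _ _ (e.trans c1.symm))
  · rcases hcov _ n1 n2 n3 with c2 | c2 | c2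
    · have hw3 : w ^ 3 * t = t * w ^ 3 := by
        have e3 : w ^ 3 * t * (w ^ 3)⁻¹ = t := by
          have e0 : w ^ 3 = w * w * w := by rw [pow_succ, pow_two]
          rw [e0]
          calc w * w * w * t * (w * w * w)⁻¹ = w * (w * (w * t * w⁻¹) * w⁻¹) * w⁻¹ := by group
            _ = t := by rw [e, c1, c2]
        calc w ^ 3 * t = (w ^ 3 * t * (w ^ 3)⁻¹) * w ^ 3 := by group
          _ = t * w ^ 3 := by rw [e3]
      have hw3A : w ^ 3 ∈ A := hcent t ht h2 h1 _ (pow_mem hw 3) hw3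
      have hn0 : 0 < orderOf w := orderOf_pos w
      by_cases hd : 3 ∣ orderOf w
      · obtain ⟨j, hj⟩ := hd
        have hj0 : 0 < j := by
          rcases Nat.eq_zero_or_pos j with h0 | h0
          · rw [h0, mul_zero] at hj
            omega
          · exact h0
        have hy : (w ^ j) ^ 3 = 1 := by
          rw [← pow_mul, mul_comm, ← hj, pow_orderOf_eq_one]
        have hy1 : w ^ j ≠ 1 := pow_ne_one_of_lt_orderOf hj0.ne' (by omega)
        exact hy1 (h3 _ (pow_mem hw j) hy)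
      · have hcop : Nat.Coprime 3 (orderOf w) :=
          (Nat.Prime.coprime_iff_not_dvd Nat.prime_three).mpr hd
        apply hwA
        rcases Nat.lt_or_ge 1 (orderOf w) with h1n | h1n
        · obtain ⟨j, -, hj⟩ := Nat.exists_mul_mod_eq_one_of_coprime hcop h1n
          have e1 : (w ^ 3) ^ j = w := by
            rw [← pow_mul, ← pow_mod_orderOf, hj, pow_one]
          rw [← e1]
          exact pow_mem hw3A j
        · have h1' : orderOf w = 1 := by omega
          rw [orderOf_eq_one_iff.mp h1']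
          exact one_mem A
    · exact hne' (hinj _ _ (e.trans c2.symm))
    · exact hne'' (hinj _ _ (c1.trans c2.symm))

/-- an involution of `W` outside `A` is conjugate in `W` to any involution of `A` -/
theorem invol_conj_or [Finite G] (W A : Subgroup G)
    (hcent : ∀ t ∈ A, t * t = 1 → t ≠ 1 → ∀ w ∈ W, w * t = t * w → w ∈ A) (hAW : A ≤ W)
    (t s : G) (ht : t ∈ A) (ht2 : t * t = 1) (ht1 : t ≠ 1)
    (hs : s ∈ W) (hs2 : s * s = 1) (hsA : s ∉ A) :
    ∃ g ∈ W, g * t * g⁻¹ = s := by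
  have htW := hAW ht
  have htinv : t⁻¹ = t := inv_eq_of_mul_eq_one_right ht2
  have hsinv : s⁻¹ = s := inv_eq_of_mul_eq_one_right hs2
  obtain ⟨r, hr⟩ : ∃ r, r = t * s := ⟨_, rfl⟩
  have hrW : r ∈ W := by
    rw [hr]
    exact mul_mem htW hs
  have hrinv : r⁻¹ = s * t := by rw [hr, mul_inv_rev, htinv, hsinv]
  have htr : t * r * t⁻¹ = r⁻¹ := by
    rw [hrinv, htinv, hr]
    calc t * (t * s) * t = (t * t) * s * t := by group
      _ = s * t := by rw [ht2, one_mul]
  have hsr : s * r * s⁻¹ = r⁻¹ := by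
    rw [hrinv, hsinv, hr]
    calc s * (t * s) * s = s * t * (s * s) := by group
      _ = s * t := by rw [hs2, mul_one]
  have hn0 : 0 < orderOf r := orderOf_pos r
  rcases Nat.even_or_odd' (orderOf r) with ⟨k, hk | hk⟩
  · exfalso
    have hk0 : 0 < k := by omega
    have hz1 : r ^ k ≠ 1 := pow_ne_one_of_lt_orderOf hk0.ne' (by omega)
    have hz2 : r ^ k * r ^ k = 1 := by rw [← pow_add, ← two_mul, ← hk, pow_orderOf_eq_one]
    have hzinv : (r ^ k)⁻¹ = r ^ k := inv_eq_of_mul_eq_one_right hz2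
    have hzW : r ^ k ∈ W := pow_mem hrW k
    have htz : r ^ k * t = t * r ^ k := by
      have e1 : t * r ^ k * t⁻¹ = r ^ k := by rw [← conj_pow, htr, inv_pow, hzinv]
      calc r ^ k * t = (t * r ^ k * t⁻¹) * t := by rw [e1]
        _ = t * r ^ k := by group
    have hzA : r ^ k ∈ A := hcent t ht ht2 ht1 _ hzW htz
    have hsz : s * r ^ k = r ^ k * s := by
      have e1 : s * r ^ k * s⁻¹ = r ^ k := by rw [← conj_pow, hsr, inv_pow, hzinv]
      calc s * r ^ k = (s * r ^ k * s⁻¹) * s := by group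
        _ = r ^ k * s := by rw [e1]
    exact hsA (hcent _ hzA hz2 hz1 s hs hsz)
  · refine ⟨t * (r ^ k)⁻¹, mul_mem htW (inv_mem (pow_mem hrW k)), ?_⟩
    have e1 : t * r ^ k * t⁻¹ = (r ^ k)⁻¹ := by rw [← conj_pow, htr, inv_pow]
    have e2 : r ^ k * r ^ k * r = 1 := by
      rw [← pow_add, ← pow_succ, ← two_mul, ← hk, pow_orderOf_eq_one]
    have e3 : t * r ^ k = (r ^ k)⁻¹ * t := by
      calc t * r ^ k = (t * r ^ k * t⁻¹) * t := by group
        _ = (r ^ k)⁻¹ * t := by rw [e1]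
    have e4 : (r ^ k)⁻¹ * (r ^ k)⁻¹ = r := by
      have h0 : r = (r ^ k * r ^ k)⁻¹ := eq_inv_of_mul_eq_one_right e2
      rw [mul_inv_rev] at h0
      exact h0.symm
    have e5 : t * r = s := by rw [hr, ← mul_assoc, ht2, one_mul]
    calc t * (r ^ k)⁻¹ * t * (t * (r ^ k)⁻¹)⁻¹ = t * (r ^ k)⁻¹ * (t * r ^ k) * t⁻¹ := by group
      _ = t * (r ^ k)⁻¹ * ((r ^ k)⁻¹ * t) * t⁻¹ := by rw [e3]
      _ = t * ((r ^ k)⁻¹ * (r ^ k)⁻¹) := by group
      _ = t * r := by rw [e4]
      _ = s := e5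

/-- a subgroup `W` containing an abelian subgroup `A` with exactly three involutions, each with
centraliser `A` in `W`, and without elements of order `3`, is `A` -/
theorem cent_eq_of_klein [Finite G] (W A : Subgroup G) (hAW : A ≤ W) (a b : G)
    (ha : a ∈ A) (hb : b ∈ A) (ha2 : a * a = 1) (hb2 : b * b = 1) (ha1 : a ≠ 1) (hb1 : b ≠ 1)
    (hab : a ≠ b)
    (hcomm : ∀ x ∈ A, ∀ y ∈ A, x * y = y * x)
    (hinv : ∀ s ∈ A, s * s = 1 → s = 1 ∨ s = a ∨ s = b ∨ s = a * b)
    (hcent : ∀ t ∈ A, t * t = 1 → t ≠ 1 → ∀ w ∈ W, w * t = t * w → w ∈ A)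
    (h3 : ∀ w ∈ W, w ^ 3 = 1 → w = 1) : W = A := by
  have hc : a * b ∈ A := mul_mem ha hb
  have hc2 : a * b * (a * b) = 1 := by
    calc a * b * (a * b) = a * (b * a) * b := by group
      _ = a * (a * b) * b := by rw [hcomm b hb a ha]
      _ = (a * a) * (b * b) := by group
      _ = 1 := by rw [ha2, hb2, one_mul]
  have hc1 : a * b ≠ 1 := by
    intro h
    apply hab
    have h0 : a = b⁻¹ := eq_inv_of_mul_eq_one_left h
    rw [h0, inv_eq_of_mul_eq_one_right hb2]
  have hac : a ≠ a * b := by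
    intro h
    apply hb1
    have h0 : a * 1 = a * b := by
      rw [mul_one]
      exact h
    exact (mul_left_cancel h0).symm
  have hbc : b ≠ a * b := by
    intro h
    apply ha1
    have h0 : 1 * b = a * b := by
      rw [one_mul]
      exact h
    exact (mul_right_cancel h0).symm
  have hcov1 : ∀ s ∈ A, s * s = 1 → s ≠ 1 → s = a ∨ s = b ∨ s = a * b := by
    intro s hs hs2 hs1
    rcases hinv s hs hs2 with h | h | h | h
    · exact absurd h hs1
    · exact Or.inl h
    · exact Or.inr (Or.inl h)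
    · exact Or.inr (Or.inr h)
  have hcov2 : ∀ s ∈ A, s * s = 1 → s ≠ 1 → s = a ∨ s = a * b ∨ s = b := by
    intro s hs hs2 hs1
    rcases hcov1 s hs hs2 hs1 with h | h | h
    · exact Or.inl h
    · exact Or.inr (Or.inr h)
    · exact Or.inr (Or.inl h)
  have hAB : ∀ w ∈ W, w * a * w⁻¹ ≠ b := fun w hw e =>
    klein_no_fusion W A hAW hcomm hcent h3 a b (a * b) ha hb hc ha2 hb2 hc2 ha1 hb1 hc1 hab hac
      hbc hcov1 w hw e
  have hAC : ∀ w ∈ W, w * a * w⁻¹ ≠ a * b := fun w hw e =>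
    klein_no_fusion W A hAW hcomm hcent h3 a (a * b) b ha hc hb ha2 hc2 hb2 ha1 hc1 hb1 hac hab
      (Ne.symm hbc) hcov2 w hw e
  have hB : ∀ s ∈ W, s * s = 1 → s ∈ A := by
    intro s hs hs2
    by_contra hsA
    obtain ⟨g1, hg1, e1⟩ := invol_conj_or W A hcent hAW a s ha ha2 ha1 hs hs2 hsA
    obtain ⟨g2, hg2, e2⟩ := invol_conj_or W A hcent hAW b s hb hb2 hb1 hs hs2 hsA
    apply hAB (g2⁻¹ * g1) (mul_mem (inv_mem hg2) hg1)
    calc g2⁻¹ * g1 * a * (g2⁻¹ * g1)⁻¹ = g2⁻¹ * (g1 * a * g1⁻¹) * g2 := by group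
      _ = g2⁻¹ * (g2 * b * g2⁻¹) * g2 := by rw [e1, e2]
      _ = b := by group
  apply le_antisymm _ hAW
  intro w hw
  have hsW : w * a * w⁻¹ ∈ W := mul_mem (mul_mem hw (hAW ha)) (inv_mem hw)
  have hs2 : w * a * w⁻¹ * (w * a * w⁻¹) = 1 := by
    calc w * a * w⁻¹ * (w * a * w⁻¹) = w * (a * a) * w⁻¹ := by group
      _ = 1 := by
        rw [ha2]
        group
  have hs1 : w * a * w⁻¹ ≠ 1 := by
    intro h
    apply ha1
    calc a = w⁻¹ * (w * a * w⁻¹) * w := by group
      _ = 1 := by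
        rw [h]
        group
  rcases hcov1 _ (hB _ hsW hs2) hs2 hs1 with h | h | h
  · apply hcent a ha ha2 ha1 w hw
    calc w * a = (w * a * w⁻¹) * w := by group
      _ = a * w := by rw [h]
  · exact absurd h (hAB w hw)
  · exact absurd h (hAC w hw)

end klein

section torus

variable {G : Type*} [Group G] {P : Type*} [Group P]

variable (a : G) (ι : Multiplicative (ZMod 2) × P →* G) (hι : Function.Injective ι)
  (hr : ∀ g : G, a * g = g * a ↔ g ∈ ι.range)

include hι hr in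
/-- the centraliser of `ι y` inside the centraliser of the involution -/
theorem cent_inf_eq_sylSub (y : Multiplicative (ZMod 2) × P) (T : Subgroup P)
    (hT : ∀ q : P, q * y.2 = y.2 * q ↔ q ∈ T) :
    Subgroup.centralizer ({a} : Set G) ⊓ Subgroup.centralizer ({ι y} : Set G) = sylSub ι T := by
  ext g
  rw [Subgroup.mem_inf, mem_sylSub, mem_cent_singleton, mem_cent_singleton]
  constructor
  · rintro ⟨h1, h2⟩
    obtain ⟨z, rfl⟩ := (hr g).mp h1.symm
    refine ⟨z, ?_, rfl⟩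
    rw [← hT]
    rw [← map_mul, ← map_mul] at h2
    exact congrArg Prod.snd (hι h2)
  · rintro ⟨z, hz, rfl⟩
    refine ⟨((hr _).mpr ⟨z, rfl⟩).symm, ?_⟩
    rw [← map_mul, ← map_mul]
    congr 1
    exact Prod.ext (mul_comm _ _) ((hT z.2).mpr hz)

include hι hr in
/-- the centraliser of an element `x` centralising the involution `a`, when the centralisers
in `P` of the second components of the conjugates of `x` are abelian of order `N / 2` with a
unique involution, and no element of order `3` centralises `x` -/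
theorem cent_of_torus [Finite G] [Finite P] (ha2 : a * a = 1) (ha1 : a ≠ 1)
    (hcen : Subgroup.center P = ⊥)
    (hconj : ∀ g : G, g * g = 1 → g ≠ 1 → ∃ c : G, g = c * a * c⁻¹)
    (x : G) (hxa : a * x = x * a)
    (hx3 : ∀ w : G, w * x = x * w → w ^ 3 = 1 → w = 1) (N : ℕ)
    (hT : ∀ y : Multiplicative (ZMod 2) × P, (∃ k : G, ι y = k⁻¹ * x * k) →
      ∃ T : Subgroup P, (∀ q : P, q * y.2 = y.2 * q ↔ q ∈ T) ∧
        (∀ s ∈ T, ∀ t ∈ T, s * t = t * s) ∧ 2 * Nat.card T = N ∧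
        ∃ t₁ ∈ T, t₁ ≠ 1 ∧ t₁ * t₁ = 1 ∧ ∀ s ∈ T, s * s = 1 → s = 1 ∨ s = t₁) :
    (∀ w w' : G, w * x = x * w → w' * x = x * w' → w * w' = w' * w) ∧
      Nat.card (Subgroup.centralizer ({x} : Set G)) = N := by
  obtain ⟨y₀, hy₀⟩ := (hr x).mp hxa
  obtain ⟨T, hT1, hT2, hT3, t₁, ht₁, ht₁1, ht₁2, ht₁u⟩ := hT y₀ ⟨1, by rw [hy₀]; group⟩
  obtain ⟨ya, hya2, hya⟩ := exists_preimage_inv a ι hι hr hcen
  have hA : Subgroup.centralizer ({a} : Set G) ⊓ Subgroup.centralizer ({x} : Set G) =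
      sylSub ι T := by
    rw [← hy₀]
    exact cent_inf_eq_sylSub a ι hι hr y₀ T hT1
  have hAcard : Nat.card (sylSub ι T) = N := by rw [sylSub_card ι hι, hT3]
  have hAW : sylSub ι T ≤ Subgroup.centralizer ({x} : Set G) := by
    rw [← hA]
    exact inf_le_right
  have hcommA : ∀ u ∈ sylSub ι T, ∀ v ∈ sylSub ι T, u * v = v * u := by
    intro u hu v hv
    obtain ⟨zu, hzu, rfl⟩ := (mem_sylSub ι T u).mp hu
    obtain ⟨zv, hzv, rfl⟩ := (mem_sylSub ι T v).mp hv
    rw [← map_mul, ← map_mul]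
    congr 1
    exact Prod.ext (mul_comm _ _) (hT2 _ hzu _ hzv)
  have hxA : x ∈ sylSub ι T := by
    rw [mem_sylSub]
    exact ⟨y₀, (hT1 y₀.2).mp rfl, hy₀⟩
  have haA : a ∈ sylSub ι T := by
    rw [mem_sylSub]
    refine ⟨ya, ?_, hya⟩
    rw [hya2]
    exact one_mem T
  have hbA : ι (1, t₁) ∈ sylSub ι T := (mem_sylSub ι T _).mpr ⟨(1, t₁), ht₁, rfl⟩
  have hb2 : ι (1, t₁) * ι (1, t₁) = 1 := by
    rw [← map_mul, Prod.mk_mul_mk, one_mul, ht₁2]
    exact map_one ι
  have hb1 : ι (1, t₁) ≠ 1 := by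
    intro h
    rw [← map_one ι] at h
    exact ht₁1 (congrArg Prod.snd (hι h))
  have hab : a ≠ ι (1, t₁) := by
    intro h
    rw [← hya] at h
    have h0 : ya.2 = t₁ := congrArg Prod.snd (hι h)
    rw [hya2] at h0
    exact ht₁1 h0.symm
  have hya1 : ya.1 ≠ 1 := by
    intro h
    apply ha1
    rw [← hya]
    have h0 : ya = 1 := Prod.ext h hya2
    rw [h0, map_one]
  have hinv : ∀ s ∈ sylSub ι T, s * s = 1 →
      s = 1 ∨ s = a ∨ s = ι (1, t₁) ∨ s = a * ι (1, t₁) := by
    intro s hs hs2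
    obtain ⟨z, hz, rfl⟩ := (mem_sylSub ι T s).mp hs
    rw [← map_mul, ← map_one ι] at hs2
    have hz2 : z * z = 1 := hι hs2
    have hz22 : z.2 * z.2 = 1 := congrArg Prod.snd hz2
    rcases z2_cases z.1 ya.1 hya1 with h1 | h1 <;> rcases ht₁u z.2 hz hz22 with h2 | h2
    · left
      have h0 : z = 1 := Prod.ext h1 h2
      rw [h0, map_one]
    · right; right; left
      have h0 : z = (1, t₁) := Prod.ext h1 h2
      rw [h0]
    · right; left
      have h0 : z = ya := Prod.ext h1 (h2.trans hya2.symm)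
      rw [h0, hya]
    · right; right; right
      have h0 : z = ya * (1, t₁) :=
        Prod.ext (by rw [Prod.fst_mul, mul_one]; exact h1)
          (by rw [Prod.snd_mul, hya2, one_mul]; exact h2)
      rw [h0, map_mul, hya]
  have hcent : ∀ t ∈ sylSub ι T, t * t = 1 → t ≠ 1 →
      ∀ w ∈ Subgroup.centralizer ({x} : Set G), w * t = t * w → w ∈ sylSub ι T := by
    intro t ht ht2 ht1 w hw hwt
    obtain ⟨k, hk⟩ := hconj t ht2 ht1
    have hxt : x * t = t * x := hcommA x hxA t ht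
    have hx'a : a * (k⁻¹ * x * k) = k⁻¹ * x * k * a := by
      have h0 := (conj_comm_iff x k a).mp (by rw [← hk]; exact hxt)
      exact h0.symm
    obtain ⟨y', hy'⟩ := (hr _).mp hx'a
    obtain ⟨T', hT'1, -, hT'3, -⟩ := hT y' ⟨k, hy'⟩
    have hD' : Nat.card ↥(Subgroup.centralizer ({a} : Set G) ⊓
        Subgroup.centralizer ({k⁻¹ * x * k} : Set G)) = N := by
      rw [← hy', cent_inf_eq_sylSub a ι hι hr y' T' hT'1, sylSub_card ι hι, hT'3]
    have hD : Nat.card ↥(Subgroup.centralizer ({t} : Set G) ⊓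
        Subgroup.centralizer ({x} : Set G)) = N := by
      rw [← hD']
      apply card_eq_of_conj _ _ k
      intro v
      rw [Subgroup.mem_inf, Subgroup.mem_inf, mem_cent_singleton, mem_cent_singleton,
        mem_cent_singleton, mem_cent_singleton]
      have e1 := conj_comm_iff v k a
      rw [← hk] at e1
      have e2 := conj_comm_iff v k (k⁻¹ * x * k)
      have e3 : k * (k⁻¹ * x * k) * k⁻¹ = x := by group
      rw [e3] at e2
      rw [e1, e2]
    have hle : sylSub ι T ≤ Subgroup.centralizer ({t} : Set G) ⊓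
        Subgroup.centralizer ({x} : Set G) := by
      intro u hu
      rw [Subgroup.mem_inf, mem_cent_singleton, mem_cent_singleton]
      exact ⟨hcommA u hu t ht, hcommA u hu x hxA⟩
    have heq := Subgroup.eq_of_le_of_card_ge hle (by rw [hD, hAcard])
    rw [heq, Subgroup.mem_inf, mem_cent_singleton]
    exact ⟨hwt, hw⟩
  have hW := cent_eq_of_klein (Subgroup.centralizer ({x} : Set G)) (sylSub ι T) hAW a
    (ι (1, t₁)) haA hbA ha2 hb2 ha1 hb1 hab hcommA hinv hcent
    (fun w hw h3 => hx3 w ((mem_cent_singleton w x).mp hw) h3)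
  constructor
  · intro w w' hw hw'
    have h1 : w ∈ sylSub ι T := by
      rw [← hW]
      exact (mem_cent_singleton w x).mpr hw
    have h2 : w' ∈ sylSub ι T := by
      rw [← hW]
      exact (mem_cent_singleton w' x).mpr hw'
    exact hcommA w h1 w' h2
  · rw [hW, hAcard]

end torus

end Cfsg.Agent.Lib.Helper17
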