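import Cfsg.Agent.Lib.Helper17.ReeT

set_option autoImplicit false

/-!
# The small Ree groups: the elements of odd order of `H ∩ ²G₂`

There are `(q - 1) / 2` of them and the non-identity ones centralise no non-identity element of
`U ∩ ²G₂`.
-/

namespace Cfsg.Agent.Lib.Helper17

open Cfsg Cfsg.Lie

open Cfsg.Agent.Lib.Helper18 (xU coe_xU g2mem g2x coe_g2x ReeTw)

/-- the number of elements of odd order of a cyclic group of order `2 k`, `k` odd -/
theorem card_odd_order_of_cyclic {C : Type*} [CommGroup C] [IsCyclic C] [Finite C] (k : ℕ)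
    (hk : Odd k) (hC : Nat.card C = 2 * k) : Nat.card {h : C // Odd (orderOf h)} = k := by
  have e : ∀ h : C, Odd (orderOf h) ↔ h ^ k = 1 := by
    intro h
    constructor
    · intro ho
      have hd : orderOf h ∣ 2 * k := hC ▸ orderOf_dvd_natCard h
      have hc : Nat.Coprime (orderOf h) 2 := (Nat.coprime_two_left.mpr ho).symm
      exact orderOf_dvd_iff_pow_eq_one.mp (hc.dvd_of_dvd_mul_left hd)
    · intro hp
      exact Odd.of_dvd_nat hk (orderOf_dvd_of_pow_eq_one hp)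
  rw [Nat.card_congr (Equiv.subtypeEquivRight e),
    Cfsg.Agent.Lib.Helper18.card_torsion_of_isCyclic, hC]
  exact Nat.gcd_eq_right (Dvd.intro_left 2 rfl)

section cent

variable {K : Type*} [Field K]

theorem g2t_conj' (y z : K) (hy : y ≠ 0) (hz : z ≠ 0) (s : ℕ) (hs : s < 12) (t : K)
    (X : ↥(chevG2.group K)) :
    g2t y z * (g2x s t * X) = g2x s (g2chi y z s * t) * (g2t y z * X) := by
  rw [← mul_assoc, g2t_conj y z hy hz s hs, mul_assoc]

variable [Fintype K]

/-- the equations for a fixed point of the torus on `U ∩ ²G₂` -/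
theorem ree_cent (y z : K) (hy : y ≠ 0) (hz : z ≠ 0) (e : ℕ) (t u v : K)
    (h : g2t y z * reeUg e t u v = reeUg e t u v * g2t y z) :
    g2chi y z 6 * t = t ∧ g2chi y z 10 * u = u ∧ g2chi y z 11 * v = v := by
  have h1 : g2t y z * reeUg e t u v =
      g2x 7 (g2chi y z 7 * t ^ e) * g2x 6 (g2chi y z 6 * t) *
        g2x 8 (g2chi y z 8 * (t ^ (e + 1) + u ^ e)) *
        g2x 9 (g2chi y z 9 * (t ^ (2 * e + 1) + v ^ e)) * g2x 10 (g2chi y z 10 * u) *
        g2x 11 (g2chi y z 11 * v) * g2t y z := by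
    unfold reeUg
    simp only [mul_assoc]
    rw [g2t_conj' y z hy hz 7 (by decide), g2t_conj' y z hy hz 6 (by decide),
      g2t_conj' y z hy hz 8 (by decide), g2t_conj' y z hy hz 9 (by decide),
      g2t_conj' y z hy hz 10 (by decide), g2t_conj y z hy hz 11 (by decide)]
  rw [h1] at h
  have h2 := mul_right_cancel h
  have h3 := congrArg (fun g : ↥(chevG2.group K) => (g : GL chevG2.Idx K)) h2
  have hd : oprodL chevG2 g2mem g2L (fun r => if r = 7 then g2chi y z 7 * t ^ e else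
      if r = 6 then g2chi y z 6 * t else
      if r = 8 then g2chi y z 8 * (t ^ (e + 1) + u ^ e) else
      if r = 9 then g2chi y z 9 * (t ^ (2 * e + 1) + v ^ e) else
      if r = 10 then g2chi y z 10 * u else g2chi y z 11 * v) =
      ((g2x 7 (g2chi y z 7 * t ^ e) * g2x 6 (g2chi y z 6 * t) *
        g2x 8 (g2chi y z 8 * (t ^ (e + 1) + u ^ e)) *
        g2x 9 (g2chi y z 9 * (t ^ (2 * e + 1) + v ^ e)) * g2x 10 (g2chi y z 10 * u) *
        g2x 11 (g2chi y z 11 * v) : ↥(chevG2.group K)) : GL chevG2.Idx K) := by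
    rw [oprod_g2L]
    rfl
  rw [reeUg_eq_oprod] at h3
  have h4 := hd.trans h3
  have h5 := ord_unique chevG2 g2mem g2L g2L_pos g2L_nodup g2L_chk g2L_all _ _ h4
  have a6 : g2chi y z 6 * t = t := by simpa using h5 6 (by decide)
  have a10 : g2chi y z 10 * u = u := by simpa using h5 10 (by decide)
  have a11 : g2chi y z 11 * v = v := by simpa using h5 11 (by decide)
  exact ⟨a6, a10, a11⟩

variable {m : ℕ}

theorem ree_pw5 (hK : Fintype.card K = 3 ^ (2 * m + 1)) (y : K) :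
    (y ^ (3 * 3 ^ m)) ^ (3 * 3 ^ m) = y ^ 3 := by
  rw [mul_comm 3 (3 ^ m), pow_mul _ (3 ^ m) 3, ← mul_comm 3 (3 ^ m), ree_pw1' hK]

theorem ree_sq_one (hK : Fintype.card K = 3 ^ (2 * m + 1)) (z : K) (hz : z ≠ 0)
    (h : z ^ (3 * 3 ^ m) = z) : z * z = 1 := by
  have h1 := ree_pw5 hK z
  rw [h, h] at h1
  have h2 : z * (z * z) = z * 1 := by
    rw [mul_one]
    calc z * (z * z) = z ^ 3 := by ring
      _ = z := h1.symm
  exact mul_left_cancel₀ hz h2

theorem ree_eq_one (hK : Fintype.card K = 3 ^ (2 * m + 1)) (z : K) (hz : z ≠ 0)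
    (h : z ^ (3 * 3 ^ m) = z * z) : z = 1 := by
  have h1 := ree_pw5 hK z
  rw [h, mul_pow, h] at h1
  have h2 : z ^ 3 * z = z ^ 3 * 1 := by
    calc z ^ 3 * z = z * z * (z * z) := by ring
      _ = z ^ 3 := h1
      _ = z ^ 3 * 1 := (mul_one _).symm
  exact mul_left_cancel₀ (pow_ne_zero 3 hz) h2

/-- a non-identity element of odd order of `H ∩ ²G₂` fixes no non-identity element of
`U ∩ ²G₂` -/
theorem ree_fpf (hK : Fintype.card K = 3 ^ (2 * m + 1)) (z : K) (hz : z ≠ 0) (hz1 : z ≠ 1)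
    (hodd : Odd (orderOf z)) (t u v : K)
    (h : g2t (z ^ 3 ^ m) z * reeUg (3 ^ m) t u v = reeUg (3 ^ m) t u v * g2t (z ^ 3 ^ m) z) :
    t = 0 ∧ u = 0 ∧ v = 0 := by
  obtain ⟨ht, hu, hv⟩ := ree_cent (z ^ 3 ^ m) z (pow_ne_zero _ hz) hz (3 ^ m) t u v h
  have c06 : chevG2.cartan 0 6 = -3 := by decide +kernel
  have c16 : chevG2.cartan 1 6 = 2 := by decide +kernel
  have c010 : chevG2.cartan 0 10 = 3 := by decide +kernel
  have c110 : chevG2.cartan 1 10 = -1 := by decide +kernel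
  have c011 : chevG2.cartan 0 11 = 0 := by decide +kernel
  have c111 : chevG2.cartan 1 11 = 1 := by decide +kernel
  have hE : z ^ 3 ^ m ≠ 0 := pow_ne_zero _ hz
  have e3 : (z ^ 3 ^ m) ^ 3 = z ^ (3 * 3 ^ m) := by rw [← pow_mul, mul_comm]
  refine ⟨?_, ?_, ?_⟩
  · by_contra ht0
    have h1 : g2chi (z ^ 3 ^ m) z 6 = 1 := by
      have : g2chi (z ^ 3 ^ m) z 6 * t = 1 * t := by rw [ht, one_mul]
      exact mul_right_cancel₀ ht0 this
    unfold g2chi at h1
    rw [c06, c16, zpow_neg, zpow_ofNat, zpow_ofNat, e3] at h1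
    have h2 : z ^ (3 * 3 ^ m) = z * z := by
      have h3 : z ^ 2 = z ^ (3 * 3 ^ m) := by
        have hne : z ^ (3 * 3 ^ m) ≠ 0 := pow_ne_zero _ hz
        field_simp at h1
        exact h1
      rw [← h3]
      ring
    exact hz1 (ree_eq_one hK z hz h2)
  · by_contra hu0
    have h1 : g2chi (z ^ 3 ^ m) z 10 = 1 := by
      have : g2chi (z ^ 3 ^ m) z 10 * u = 1 * u := by rw [hu, one_mul]
      exact mul_right_cancel₀ hu0 this
    unfold g2chi at h1
    rw [c010, c110, zpow_neg, zpow_ofNat, zpow_one, e3] at h1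
    have h2 : z ^ (3 * 3 ^ m) = z := by
      field_simp at h1
      exact h1
    have h3 : z ^ 2 = 1 := by
      rw [pow_two]
      exact ree_sq_one hK z hz h2
    have h4 : orderOf z ∣ 2 := orderOf_dvd_of_pow_eq_one h3
    rcases (Nat.dvd_prime Nat.prime_two).mp h4 with h5 | h5
    · exact hz1 (orderOf_eq_one_iff.mp h5)
    · rw [h5] at hodd
      exact absurd hodd (by decide)
  · by_contra hv0
    have h1 : g2chi (z ^ 3 ^ m) z 11 = 1 := by
      have : g2chi (z ^ 3 ^ m) z 11 * v = 1 * v := by rw [hv, one_mul]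
      exact mul_right_cancel₀ hv0 this
    unfold g2chi at h1
    rw [c011, c111, zpow_zero, zpow_one, one_mul] at h1
    exact hz1 h1

end cent

section odd

variable {K : Type*} [Field K] [Fintype K] [CharP K 3] {m : ℕ} (T : ReeTw K m)

include T in
/-- `H ∩ ²G₂` has `(q - 1) / 2` elements of odd order -/
theorem ree_odd_count (hK : Fintype.card K = 3 ^ (2 * m + 1)) :
    2 * Nat.card {h : ↥(chevG2.diagonalSubgroup K ⊓ twistedG2 K (3 ^ m)) // Odd (orderOf h)} =
      3 ^ (2 * m + 1) - 1 := by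
  rw [← reeTorus_range T hK]
  have e : {z : Kˣ // Odd (orderOf z)} ≃ {h : ↥(reeTorus K m).range // Odd (orderOf h)} :=
    (MonoidHom.ofInjective (reeTorus_injective (K := K) m)).toEquiv.subtypeEquiv (fun z => by
      show Odd (orderOf z) ↔
        Odd (orderOf ((MonoidHom.ofInjective (reeTorus_injective (K := K) m)) z))
      rw [MulEquiv.orderOf_eq])
  have hq : 3 ^ (2 * m + 1) % 2 = 1 := Nat.odd_iff.mp (Odd.pow (by decide))
  have hcard : Nat.card Kˣ = 2 * (Fintype.card K / 2) := by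
    rw [Nat.card_units, Nat.card_eq_fintype_card, hK]
    omega
  rw [← Nat.card_congr e, card_odd_order_of_cyclic (C := Kˣ) (Fintype.card K / 2)
    (ree_card_half_odd hK) hcard, hK]
  omega

include T in
/-- the non-identity elements of odd order of `H ∩ ²G₂` act without fixed points on
`U ∩ ²G₂` -/
theorem ree_odd_fpf (hK : Fintype.card K = 3 ^ (2 * m + 1)) (h : GL chevG2.Idx K)
    (hh : h ∈ chevG2.diagonalSubgroup K ⊓ twistedG2 K (3 ^ m)) (h1 : h ≠ 1)
    (ho : Odd (orderOf h)) :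
    (chevG2.posUnipotent K ⊓ twistedG2 K (3 ^ m)) ⊓ Subgroup.centralizer {h} = ⊥ := by
  rw [← reeTorus_range T hK] at hh
  obtain ⟨zu, rfl⟩ := hh
  have hz1 : (zu : K) ≠ 1 := by
    intro e
    apply h1
    have : zu = 1 := Units.ext e
    rw [this, map_one]
  have hoz : Odd (orderOf (zu : K)) := by
    rw [orderOf_units, ← orderOf_injective (reeTorus K m) (reeTorus_injective m) zu]
    exact ho
  rw [eq_bot_iff]
  rintro u ⟨hu, hc⟩
  obtain ⟨t, u0, v, rfl⟩ := (ree_unip_iff T hK u).mp hu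
  have hc2 : ((reeUg (3 ^ m) t u0 v : ↥(chevG2.group K)) : GL chevG2.Idx K) ∈
      Subgroup.centralizer {reeTorus K m zu} := hc
  rw [Subgroup.mem_centralizer_iff] at hc2
  have hc' := hc2 _ (Set.mem_singleton _)
  rw [reeTorus_apply] at hc'
  have hc'' : g2t ((zu : K) ^ 3 ^ m) (zu : K) * reeUg (3 ^ m) t u0 v =
      reeUg (3 ^ m) t u0 v * g2t ((zu : K) ^ 3 ^ m) (zu : K) := Subtype.ext hc'
  obtain ⟨rfl, rfl, rfl⟩ := ree_fpf hK (zu : K) zu.ne_zero hz1 hoz t u0 v hc''
  rw [Subgroup.mem_bot]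
  have he : 3 ^ m ≠ 0 := pow_ne_zero _ (by norm_num)
  have h0 : reeUg (3 ^ m) (0 : K) 0 0 = 1 := by
    rw [reeUg_0u0 (3 ^ m) he, zero_pow he, g2x_zero, g2x_zero, mul_one]
  rw [h0]
  rfl

end odd

end Cfsg.Agent.Lib.Helper17
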