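import Cfsg.Agent.Lib.Helper17.ReeH
import Cfsg.Agent.Lib.Helper18.TorusKer

set_option autoImplicit false

/-!
# The small Ree groups: the structure of `H ∩ ²G₂`

`H ∩ ²G₂ = {h_a(z^θ) h_b(z)}` is cyclic of order `q - 1`; its elements of odd order act on
`U ∩ ²G₂` without fixed points.
-/

namespace Cfsg.Agent.Lib.Helper17

open Cfsg Cfsg.Lie

open Cfsg.Agent.Lib.Helper18 (xU coe_xU g2mem g2x coe_g2x ReeTw)

section param

variable {K : Type*} [Field K]

/-- the parametrisation of `H ∩ ²G₂` -/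
noncomputable def reeTorus (K : Type*) [Field K] (m : ℕ) : Kˣ →* GL chevG2.Idx K where
  toFun z := ((g2t ((z : K) ^ 3 ^ m) (z : K) : ↥(chevG2.group K)) : GL chevG2.Idx K)
  map_one' := by
    rw [Units.val_one, one_pow, g2t_one]
    rfl
  map_mul' := by
    intro a b
    rw [Units.val_mul, mul_pow, ← g2t_mul _ _ _ _ (pow_ne_zero _ a.ne_zero) a.ne_zero
      (pow_ne_zero _ b.ne_zero) b.ne_zero]
    rfl

theorem reeTorus_apply (m : ℕ) (z : Kˣ) :
    reeTorus K m z = ((g2t ((z : K) ^ 3 ^ m) (z : K) : ↥(chevG2.group K)) : GL chevG2.Idx K) :=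
  rfl

theorem reeTorus_injective (m : ℕ) : Function.Injective (reeTorus K m) := by
  intro a b h
  rw [reeTorus_apply, reeTorus_apply] at h
  have h' := g2t_inj _ _ _ _ (pow_ne_zero _ a.ne_zero) a.ne_zero (pow_ne_zero _ b.ne_zero)
    b.ne_zero (Subtype.ext h)
  exact Units.ext h'.2

variable [Fintype K] [CharP K 3] {m : ℕ} (T : ReeTw K m)

include T in
/-- `H ∩ ²G₂` is the image of the parametrisation -/
theorem reeTorus_range (hK : Fintype.card K = 3 ^ (2 * m + 1)) :
    (reeTorus K m).range = chevG2.diagonalSubgroup K ⊓ twistedG2 K (3 ^ m) := by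
  ext g
  constructor
  · rintro ⟨z, rfl⟩
    rw [reeTorus_apply]
    exact ⟨g2t_mem_diag _ _ (pow_ne_zero _ z.ne_zero) z.ne_zero, ree_torus_mem hK _ z.ne_zero⟩
  · rintro ⟨hH, hG⟩
    have hg : g ∈ chevG2.group K := ree_le_group (3 ^ m) hG
    obtain ⟨z, hz, e⟩ := ree_fix_diag_form T ⟨g, hg⟩ hH (ree_fixed T hK ⟨g, hg⟩ hG)
    refine ⟨Units.mk0 z hz, ?_⟩
    rw [reeTorus_apply]
    exact (congrArg (fun x : ↥(chevG2.group K) => (x : GL chevG2.Idx K)) e).symm

include T in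
/-- `|H ∩ ²G₂| = q - 1` -/
theorem ree_diag_card (hK : Fintype.card K = 3 ^ (2 * m + 1)) :
    Nat.card ↥(chevG2.diagonalSubgroup K ⊓ twistedG2 K (3 ^ m)) = 3 ^ (2 * m + 1) - 1 := by
  rw [← reeTorus_range T hK,
    ← Nat.card_congr (MonoidHom.ofInjective (reeTorus_injective (K := K) m)).toEquiv,
    Nat.card_units, Nat.card_eq_fintype_card, hK]

include T in
/-- `H ∩ ²G₂` is cyclic -/
theorem ree_diag_cyclic (hK : Fintype.card K = 3 ^ (2 * m + 1)) :
    IsCyclic ↥(chevG2.diagonalSubgroup K ⊓ twistedG2 K (3 ^ m)) := by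
  rw [← reeTorus_range T hK]
  exact isCyclic_of_surjective (reeTorus K m).rangeRestrict
    (reeTorus K m).rangeRestrict_surjective

end param

end Cfsg.Agent.Lib.Helper17
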